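import Cfsg.Agent.Lib.Sporadic.U43Triple.Rep

/-!
# Exactly three classes of triple covers of PSU(4, 3) in SU(6, 2)
-/

set_option autoImplicit false
set_option maxRecDepth 100000
set_option maxHeartbeats 1000000

namespace CfsgLib.Sporadic.U43Triple

open Matrix Cfsg Equiv
open CfsgLib.Recog.SporBound.Fi22U6 (F4)
open CfsgLib.Known.U43Mult (Mdl nonempty_equiv)

theorem star_mul (A B : Mat) : star' (A * B) = star' B * star' A := by
  ext i j
  simp only [star', Matrix.of_apply, Matrix.mul_apply, cj_sum, cj_mul]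
  exact Finset.sum_congr rfl fun k _ => mul_comm _ _

/-- The diagonal of an outer diagonal matrix. -/
def outerDiag (k : Fin 3) : Mat := diagonal ![F4.om ^ k.1, 1, 1, 1, 1, 1]

theorem outer_checks : ∀ k : Fin 3, star' (outerDiag k) * outerDiag k = 1 ∧ outerDiag k * star' (outerDiag k) = 1 ∧
    star' (star' (outerDiag k)) = outerDiag k ∧ outerDiag (-k) = star' (outerDiag k) := by decide +kernel

theorem outer_unitary (k : Fin 3) (g : G) :
    star' (outerDiag k * mat g * star' (outerDiag k)) * (outerDiag k * mat g * star' (outerDiag k)) = 1 := by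
  obtain ⟨h1, h2, h3, -⟩ := outer_checks k
  rw [star_mul, star_mul, h3,
    show outerDiag k * (star' (mat g) * star' (outerDiag k)) * (outerDiag k * mat g * star' (outerDiag k)) =
      outerDiag k * (star' (mat g) * (star' (outerDiag k) * outerDiag k) * mat g) * star' (outerDiag k) by
      simp only [mul_assoc],
    h1, mul_one, star_mul_self, mul_one, h2]

/-- Conjugation by an outer diagonal matrix. -/
def outer (k : Fin 3) : G →* G :=
  MonoidHom.mk' (fun g => mk (outerDiag k * mat g * star' (outerDiag k))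
    (by rw [det_mul, det_mul, mat_det, mul_one, ← det_mul, (outer_checks k).2.1, det_one])
    (outer_unitary k g)) fun g h => mat_injective (by
      show outerDiag k * mat (g * h) * star' (outerDiag k) = outerDiag k * mat g * star' (outerDiag k) * (outerDiag k * mat h * star' (outerDiag k))
      rw [mat_mul, show outerDiag k * mat g * star' (outerDiag k) * (outerDiag k * mat h * star' (outerDiag k)) =
        outerDiag k * mat g * (star' (outerDiag k) * outerDiag k) * mat h * star' (outerDiag k) by simp only [mul_assoc],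
        (outer_checks k).1, mul_one, mul_assoc (outerDiag k) (mat g)])

theorem mat_outer (k : Fin 3) (g : G) : mat (outer k g) = outerDiag k * mat g * star' (outerDiag k) := rfl

theorem outer_neg (k : Fin 3) (g : G) : outer k (outer (-k) g) = g := mat_injective (by
  obtain ⟨h1, h2, h3, h4⟩ := outer_checks k
  rw [mat_outer, mat_outer, h4, h3, show outerDiag k * (star' (outerDiag k) * mat g * outerDiag k) * star' (outerDiag k) =
    (outerDiag k * star' (outerDiag k)) * mat g * (outerDiag k * star' (outerDiag k)) by simp only [mul_assoc],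
    h2, one_mul, mul_one])

theorem outer_injective (k : Fin 3) : Function.Injective (outer k) := fun a b h => by
  have ha := outer_neg (-k) a
  have hb := outer_neg (-k) b
  rw [neg_neg] at ha hb
  rw [← ha, ← hb, h]

/-- The three models. -/
def model (k : Fin 3) : Subgroup G := triple.map (outer k)

theorem card_model (k : Fin 3) : Nat.card ↥(model k) = 9797760 := by
  rw [model, ← Nat.card_congr (triple.equivMapOfInjective _ (outer_injective k)).toEquiv, card_triple]

theorem model_center (k : Fin 3) : Nat.card ↥(Subgroup.center ↥(model k)) = 3 ∧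
    Nonempty (↥(model k) ⧸ Subgroup.center ↥(model k) ≃* Mdl) := by
  let e : ↥triple ≃* ↥(model k) := triple.equivMapOfInjective _ (outer_injective k)
  have hc : (Subgroup.center ↥triple).map e.toMonoidHom = Subgroup.center ↥(model k) := center_map e
  refine ⟨?_, ⟨(QuotientGroup.congr _ _ e hc).symm.trans ?_⟩⟩
  · rw [← hc, Nat.card_congr ((Subgroup.center ↥triple).equivMapOfInjective _ e.injective).toEquiv.symm,
      center_triple, card_ker]
  · exact (QuotientGroup.quotientMulEquivOfEq center_triple).trans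
      (QuotientGroup.quotientKerEquivOfSurjective rho rho_surjective)

theorem even_le_model (k : Fin 3) : monoEven ≤ model k := fun g hg => by
  refine ⟨outer (-k) g, monoEven_le_triple ?_, outer_neg k g⟩
  obtain ⟨σ, hσ, h⟩ := hg
  refine ⟨σ, hσ, fun i j hij => ?_⟩
  rw [mat_outer, outerDiag]
  have : star' (diagonal ![F4.om ^ (-k).1, 1, 1, 1, 1, 1]) =
      diagonal fun i => cj (![F4.om ^ (-k).1, 1, 1, 1, 1, 1] i) := by
    ext a b
    by_cases hab : a = b
    · subst hab; simp [star']
    · simp [star', Matrix.diagonal_apply_ne _ hab, Matrix.diagonal_apply_ne _ (Ne.symm hab), cj_zero]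
  rw [this, Matrix.mul_diagonal, Matrix.diagonal_mul, h i j hij, mul_zero, zero_mul]

/-- The product of the entries of the points of a model. -/
def modelConst (k : Fin 3) : F4 := F4.om ^ k.1

theorem om_perm (c : F4) (d : Fin 6 → F4) (σ : Perm (Fin 6)) (hd : DiagOK d) (v : Fin 6 → F4) (h : Om c v) :
    Om c (fun i => d i * v (σ i)) := by
  have hne : ∀ i, d i ≠ 0 := fun i h0 => by
    have := hd.1 i
    rw [h0, mul_zero] at this
    exact zero_ne_one this
  have hw : weight (fun i => d i * v (σ i)) = weight v := by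
    unfold weight
    refine Finset.card_equiv σ fun i => ?_
    simp [hne i]
  have hp : ∏ i, d i * v (σ i) = ∏ i, v i := by
    rw [Finset.prod_mul_distrib, hd.2, one_mul, Equiv.prod_comp σ v]
  unfold Om at *
  rw [hw]
  simp only [hp]
  exact h

theorem monoTop_le_stab (c : F4) : monoTop ≤ stabOm c := by
  intro g hg v hv
  obtain ⟨e, he, σ, -, rfl⟩ := exists_decomp hg
  have h := om_perm c _ σ⁻¹ (diagOK_of_mem he) v hv
  convert h using 1
  funext i
  rw [mat_mul, mat_permHom, mat_diag he, ← Matrix.mulVec_mulVec, Matrix.mulVec_diagonal, Matrix.diagonal_apply_eq]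
  congr 1
  simp only [Matrix.mulVec, dotProduct, pmat, Matrix.of_apply]
  rw [Finset.sum_eq_single (σ⁻¹ i) (fun b _ hb => by
    rw [if_neg, zero_mul]; intro e; exact hb (by rw [e]; simp)) (by simp)]
  simp

theorem rZero_model_stab0 : ∀ v, Om (modelConst 0) v → Om (modelConst 0)
    (outerDiag 0 *ᵥ (blk 1 0 *ᵥ (blk 0 1 *ᵥ (pmat (Equiv.swap 0 1) *ᵥ (outerDiag (-0) *ᵥ v))))) := by
  decide +kernel

theorem rZero_model_stab1 : ∀ v, Om (modelConst 1) v → Om (modelConst 1)
    (outerDiag 1 *ᵥ (blk 1 0 *ᵥ (blk 0 1 *ᵥ (pmat (Equiv.swap 0 1) *ᵥ (outerDiag (-1) *ᵥ v))))) := by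
  decide +kernel

theorem rZero_model_stab2 : ∀ v, Om (modelConst 2) v → Om (modelConst 2)
    (outerDiag 2 *ᵥ (blk 1 0 *ᵥ (blk 0 1 *ᵥ (pmat (Equiv.swap 0 1) *ᵥ (outerDiag (-2) *ᵥ v))))) := by
  decide +kernel

theorem rZero_model_stab (k : Fin 3) (v : Fin 6 → F4) (hv : Om (modelConst k) v) : Om (modelConst k)
    (outerDiag k *ᵥ (blk 1 0 *ᵥ (blk 0 1 *ᵥ (pmat (Equiv.swap 0 1) *ᵥ (outerDiag (-k) *ᵥ v))))) := by
  fin_cases k
  exacts [rZero_model_stab0 v hv, rZero_model_stab1 v hv, rZero_model_stab2 v hv]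

theorem outer_mono {k : Fin 3} {g : G} (hg : g ∈ monoTop) : outer k g ∈ monoTop := by
  obtain ⟨σ, hσ, h⟩ := hg
  refine ⟨σ, hσ, fun i j hij => ?_⟩
  rw [mat_outer, show star' (outerDiag k) = outerDiag (-k) from (outer_checks k).2.2.2.symm, outerDiag, outerDiag,
    Matrix.mul_diagonal, Matrix.diagonal_mul, h i j hij, mul_zero, zero_mul]

theorem model_le_stab (k : Fin 3) : model k ≤ stabOm (modelConst k) := by
  rw [model, triple, MonoidHom.map_closure, Subgroup.closure_le]
  rintro _ ⟨_, ⟨j, rfl⟩, rfl⟩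
  fin_cases j
  · exact monoTop_le_stab _ (outer_mono (monoSub_mono bot_le (dElt_mem _ omDiag_ok)))
  · exact monoTop_le_stab _ (outer_mono (permHom_mem (Subgroup.mem_top _)))
  · exact monoTop_le_stab _ (outer_mono (permHom_mem (Subgroup.mem_top _)))
  · intro v hv
    show Om (modelConst k) (mat (outer k rZero) *ᵥ v)
    rw [mat_outer, mat_rZero, ← (outer_checks k).2.2.2]
    simp only [← Matrix.mulVec_mulVec]
    exact rZero_model_stab k v hv

theorem model_ne : ∀ a b : Fin 3, a ≠ b → ∃ v, Om (modelConst a) v ∧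
    ¬ Om (modelConst a) ((outerDiag b * mat rZero * star' (outerDiag b)) *ᵥ v) := by decide +kernel

theorem model_not_conj {a b : Fin 3} (hab : a ≠ b) :
    ¬ ∃ g : G, (model a).map (MulAut.conj g).toMonoidHom = model b := by
  rintro ⟨g, hg⟩
  haveI : Fact (Nat.Prime 3) := ⟨by norm_num⟩
  have hle : sylowThree ≤ model b := (monoSub_mono nine_le_alt).trans (even_le_model b)
  have hidx : ¬ 3 ∣ (sylowThree.subgroupOf (model b)).index := by
    have := (sylowThree.subgroupOf (model b)).card_mul_index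
    rw [Nat.card_congr (Subgroup.subgroupOfEquivOfLe hle).toEquiv, card_sylowThree, card_model] at this
    omega
  let P : Sylow 3 ↥(model b) := (IsPGroup.of_card (n := 7) (by
    rw [Nat.card_congr (Subgroup.subgroupOfEquivOfLe hle).toEquiv, card_sylowThree]; norm_num)).toSylow hidx
  set E' := diagSub.map (MulAut.conj g).toMonoidHom with hE'
  have hE'le : E' ≤ model b := hg ▸ Subgroup.map_mono ((diag_le _).trans (even_le_model a))
  have hE'card : Nat.card ↥E' = 243 := by
    rw [hE', ← Nat.card_congr (diagSub.equivMapOfInjective _ (MulAut.conj g).injective).toEquiv, card_diagSub]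
  obtain ⟨Q, hQ⟩ := (IsPGroup.of_card (n := 5) (show Nat.card ↥(E'.subgroupOf (model b)) = 3 ^ 5 by
    rw [Nat.card_congr (Subgroup.subgroupOfEquivOfLe hE'le).toEquiv, hE'card]; norm_num)).exists_le_sylow
  obtain ⟨k, hk⟩ := MulAction.exists_smul_eq ↥(model b) Q P
  have hsub : E'.map (MulAut.conj k.1).toMonoidHom ≤ sylowThree := by
    rintro _ ⟨x, hx, rfl⟩
    have hxQ : (⟨x, hE'le hx⟩ : ↥(model b)) ∈ (Q : Subgroup ↥(model b)) := hQ hx
    have : k * ⟨x, hE'le hx⟩ * k⁻¹ ∈ ((k • Q : Sylow 3 ↥(model b)) : Subgroup ↥(model b)) := by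
      rw [Sylow.coe_subgroup_smul, Subgroup.mem_pointwise_smul_iff_inv_smul_mem]
      simpa [MulAut.smul_def, MulAut.inv_def, mul_assoc] using hxQ
    rw [hk] at this
    exact this
  have hcomm : ∀ x ∈ E'.map (MulAut.conj k.1).toMonoidHom, ∀ y ∈ E'.map (MulAut.conj k.1).toMonoidHom,
      x * y = y * x := by
    rintro _ ⟨_, ⟨x, hx, rfl⟩, rfl⟩ _ ⟨_, ⟨y, hy, rfl⟩, rfl⟩
    have : x * y = y * x := mat_injective (by
      rw [mat_mul, mat_mul, mat_diag hx, mat_diag hy, Matrix.diagonal_mul_diagonal, Matrix.diagonal_mul_diagonal]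
      simp [mul_comm])
    rw [← map_mul, ← map_mul, ← map_mul, ← map_mul, this]
  have heq := eq_diag_of_abelian hsub (by
    rw [← Nat.card_congr (E'.equivMapOfInjective _ (MulAut.conj k.1).injective).toEquiv, hE'card]) hcomm
  set h := k.1 * g with hh
  have hmono : h ∈ monoTop := monoTop_of_normalizes fun e he => heq ▸ ⟨_, ⟨e, he, rfl⟩, by simp [hh, mul_assoc]⟩
  obtain ⟨v, hv, hnv⟩ := model_ne a b hab
  refine hnv ?_
  have hmem : outer b rZero ∈ stabOm (modelConst a) := by
    have h1 : k.1⁻¹ * outer b rZero * k.1 ∈ model b :=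
      mul_mem (mul_mem (inv_mem k.2) ⟨rZero, gen_mem 3, rfl⟩) k.2
    obtain ⟨x, hx, hxe⟩ := hg.ge h1
    have h2 : outer b rZero = h * x * h⁻¹ := by
      change g * x * g⁻¹ = k.1⁻¹ * outer b rZero * k.1 at hxe
      rw [hh, show k.1 * g * x * (k.1 * g)⁻¹ = k.1 * (g * x * g⁻¹) * k.1⁻¹ by group, hxe]
      group
    rw [h2]
    exact mul_mem (mul_mem (monoTop_le_stab _ hmono) (model_le_stab a hx)) (inv_mem (monoTop_le_stab _ hmono))
  exact hmem v hv

/-- A letter of a certificate. -/
def letterMat (R : Mat) (j : ℕ) : Mat :=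
  let base := fun k : ℕ => if k = 3 then R else mat (genK k)
  if j < 4 then base j else if j < 8 then star' (base (j - 4)) else 1

/-- A word of a certificate. -/
def wordMat (R : Mat) (w : List ℕ) : Mat := (w.map (letterMat R)).prod

/-- The matrix of a representative. -/
def repMat (i j : Fin 4) (e : Fin 2) : Mat :=
  if e = 0 then blk i 0 * blk 0 j else blk i 0 * blk 0 j * pmat (Equiv.swap 0 1)

/-- The certificate for a representative. -/
def certOK (i j : Fin 4) (e : Fin 2) : Bool :=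
  let R := repMat i j e
  (badWords.any fun p => p.1 == 8 * i.1 + 2 * j.1 + e.1 &&
    decide ((List.replicate 11 (wordMat R p.2)).prod = 1 ∧ wordMat R p.2 ≠ 1)) ||
  goodWords.any fun p => p.1 == 8 * i.1 + 2 * j.1 + e.1 && decide (p.2.1 < 3) &&
    decide (wordMat R p.2.2 = outerDiag (Fin.ofNat 3 p.2.1) * mat rZero * star' (outerDiag (Fin.ofNat 3 p.2.1)))

theorem cert_ok0 : ∀ j : Fin 4, ∀ e : Fin 2, ¬((0 : Fin 4) = 0 ∧ j = 0) → certOK 0 j e = true := by decide +kernel

theorem cert_ok1 : ∀ j : Fin 4, ∀ e : Fin 2, ¬((1 : Fin 4) = 0 ∧ j = 0) → certOK 1 j e = true := by decide +kernel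

theorem cert_ok2 : ∀ j : Fin 4, ∀ e : Fin 2, ¬((2 : Fin 4) = 0 ∧ j = 0) → certOK 2 j e = true := by decide +kernel

theorem cert_ok3 : ∀ j : Fin 4, ∀ e : Fin 2, ¬((3 : Fin 4) = 0 ∧ j = 0) → certOK 3 j e = true := by decide +kernel

theorem cert_ok (i j : Fin 4) (e : Fin 2) (h : ¬(i = 0 ∧ j = 0)) : certOK i j e = true := by
  fin_cases i
  exacts [cert_ok0 j e h, cert_ok1 j e h, cert_ok2 j e h, cert_ok3 j e h]

theorem mat_rep (i j : Fin 4) (e : Fin 2) : mat (rep i j e) = repMat i j e := by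
  fin_cases e
  · show mat (blockA i * blockB j * sigElt ^ 0) = blk i 0 * blk 0 j
    rw [pow_zero, mul_one]; rfl
  · show mat (blockA i * blockB j * sigElt ^ 1) = blk i 0 * blk 0 j * pmat (Equiv.swap 0 1)
    rw [pow_one]; rfl

theorem word_mem {K : Subgroup G} (hK : monoEven ≤ K) {r : G} (hr : r ∈ K) (w : List ℕ) :
    ∃ x ∈ K, mat x = wordMat (mat r) w := by
  have hlt : ∀ j, ∃ x ∈ K, mat x = letterMat (mat r) j := by
    have hb : ∀ k < 4, ∃ x ∈ K, mat x = if k = 3 then mat r else mat (genK k) := by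
      intro k hk
      interval_cases k
      · exact ⟨gDiag, hK (diag_le _ (dElt_mem _ omDiag_ok)), rfl⟩
      · exact ⟨permHom cycA, hK (permHom_mem (Equiv.Perm.mem_alternatingGroup.2 (by decide +kernel))), rfl⟩
      · exact ⟨permHom cycFive, hK (permHom_mem (Equiv.Perm.mem_alternatingGroup.2 (by decide +kernel))), rfl⟩
      · exact ⟨r, hr, rfl⟩
    intro j
    by_cases hj : j < 4
    · obtain ⟨x, hx, e⟩ := hb j hj
      exact ⟨x, hx, by rw [e]; simp [letterMat, hj]⟩
    · by_cases hj' : j < 8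
      · obtain ⟨x, hx, e⟩ := hb (j - 4) (by omega)
        exact ⟨x⁻¹, inv_mem hx, by rw [mat_inv, e]; simp [letterMat, hj, hj']⟩
      · exact ⟨1, one_mem _, by rw [mat_one]; simp [letterMat, hj, hj']⟩
  induction w with
  | nil => exact ⟨1, one_mem _, rfl⟩
  | cons a w ih =>
    obtain ⟨x, hx, ex⟩ := hlt a
    obtain ⟨y, hy, ey⟩ := ih
    exact ⟨x * y, mul_mem hx hy, by rw [mat_mul, ex, ey]; rfl⟩

/-- A group with the monomial group and a representative outside is a model. -/
theorem eq_model {K : Subgroup G} (hK : monoEven ≤ K) (hcard : Nat.card ↥K = 9797760) {i j : Fin 4} {e : Fin 2}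
    (hne : ¬(i = 0 ∧ j = 0)) (hr : rep i j e ∈ K) : ∃ k, K = model k := by
  have h := cert_ok i j e hne
  simp only [certOK, Bool.or_eq_true, List.any_eq_true, Bool.and_eq_true, decide_eq_true_eq, beq_iff_eq] at h
  rcases h with ⟨p, -, -, h11, hne1⟩ | ⟨p, -, ⟨-, -⟩, hw⟩
  · exfalso
    obtain ⟨x, hx, ex⟩ := word_mem hK hr p.2
    rw [mat_rep] at ex
    have hpow : ∀ m : ℕ, mat (x ^ m) = (List.replicate m (mat x)).prod := fun m => by
      induction m with
      | zero => rfl
      | succ m ih => rw [pow_succ', mat_mul, ih, List.replicate_succ, List.prod_cons]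
    have hx11 : x ^ 11 = 1 := mat_injective (by rw [hpow, ex, mat_one]; exact h11)
    have hx1 : x ≠ 1 := fun h1 => hne1 (by rw [← ex, h1, mat_one])
    haveI : Fact (Nat.Prime 11) := ⟨by norm_num⟩
    have ho : orderOf x = 11 := orderOf_eq_prime hx11 hx1
    have hdvd := Subgroup.orderOf_dvd_natCard K hx
    rw [ho, hcard] at hdvd
    omega
  · refine ⟨Fin.ofNat 3 p.2.1, (Subgroup.eq_of_le_of_card_ge ?_ (by rw [hcard, card_model])).symm⟩
    set k := Fin.ofNat 3 p.2.1
    obtain ⟨x, hx, ex⟩ := word_mem hK hr p.2.2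
    rw [mat_rep, hw] at ex
    have hx' : outer k rZero = x := mat_injective (by rw [ex]; rfl)
    rw [model, triple, MonoidHom.map_closure, Subgroup.closure_le]
    rintro _ ⟨_, ⟨t, rfl⟩, rfl⟩
    have hev : ∀ y ∈ monoEven, outer k y ∈ K := fun y hy => by
      obtain ⟨z, -, hz⟩ := even_le_model k (show y ∈ monoEven from hy)
      refine hK ?_
      obtain ⟨σ, hσ, hh⟩ := hy
      refine ⟨σ, hσ, fun a b hab => ?_⟩
      rw [mat_outer, outerDiag, show star' (diagonal ![F4.om ^ k.1, 1, 1, 1, 1, 1]) = outerDiag (-k) from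
        (outer_checks k).2.2.2.symm, outerDiag, Matrix.mul_diagonal, Matrix.diagonal_mul, hh a b hab, mul_zero, zero_mul]
    fin_cases t
    · exact hev _ (diag_le _ (dElt_mem _ omDiag_ok))
    · exact hev _ (permHom_mem (Equiv.Perm.mem_alternatingGroup.2 (by decide +kernel)))
    · exact hev _ (permHom_mem (Equiv.Perm.mem_alternatingGroup.2 (by decide +kernel)))
    · show outer k rZero ∈ K
      rw [hx']; exact hx

theorem classify {K : Subgroup G} (c : Cover K) : ∃ (g : G) (k : Fin 3), K.map (MulAut.conj g).toMonoidHom = model k := by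
  obtain ⟨n, i, j, e, hne, hle, hr, hcard⟩ := exists_rep c
  obtain ⟨k, hk⟩ := eq_model hle hcard hne hr
  exact ⟨n, k, hk⟩

theorem cover_of_iso {K : Subgroup G} (hc : Nat.card ↥(Subgroup.center ↥K) = 3)
    (e : ↥K ⧸ Subgroup.center ↥K ≃* Mdl) : Nonempty (Cover K) :=
  ⟨{ proj := e.toMonoidHom.comp (QuotientGroup.mk' _)
     surj := e.surjective.comp (QuotientGroup.mk'_surjective _)
     ker_eq := by
       rw [← MonoidHom.comap_ker, (MonoidHom.ker_eq_bot_iff _).2 e.injective, MonoidHom.comap_bot,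
         QuotientGroup.ker_mk']
     card_center := hc }⟩

/-- SU(6) over two fields of four elements. -/
theorem exists_su_equiv {F : Type} [Field F] [Fintype F] (hF : Fintype.card F = 4) :
    Nonempty (G ≃* ↥(Cfsg.SU 6 F 2)) := by
  have hF4 : Fintype.card F4 = 4 := by decide
  let r : F4 ≃+* F := FiniteField.ringEquivOfCardEq (hF4.trans hF.symm)
  have hform : ∀ u v : Fin 6 → F4,
      Cfsg.hermForm 6 F 2 (fun i => r (u i)) (fun i => r (v i)) = r (Cfsg.hermForm 6 F4 2 u v) := by
    intro u v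
    simp [Cfsg.hermForm, map_sum]
  have hmul : ∀ (M : Mat) (u : Fin 6 → F4),
      Matrix.mulVec (r.toRingHom.mapMatrix M) (fun i => r (u i)) = fun i => r (Matrix.mulVec M u i) := by
    intro M u
    funext i
    exact (RingHom.map_mulVec r.toRingHom M u i).symm
  let m : Matrix.SpecialLinearGroup (Fin 6) F4 →* Matrix.SpecialLinearGroup (Fin 6) F :=
    Matrix.SpecialLinearGroup.map r.toRingHom
  have hm : Function.Bijective m := by
    refine ⟨fun A B h => Subtype.ext ?_, fun A => ⟨Matrix.SpecialLinearGroup.map r.symm.toRingHom A, Subtype.ext ?_⟩⟩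
    · ext i j
      exact r.injective (congrFun (congrFun (congrArg Subtype.val h) i) j)
    · ext i j
      exact r.apply_symm_apply _
  let M : Matrix.SpecialLinearGroup (Fin 6) F4 ≃* Matrix.SpecialLinearGroup (Fin 6) F := MulEquiv.ofBijective m hm
  have hmem : (Cfsg.SU 6 F4 2).map M.toMonoidHom = Cfsg.SU 6 F 2 := by
    ext B
    constructor
    · rintro ⟨A, hA, rfl⟩ u v
      obtain ⟨u, rfl⟩ : ∃ u' : Fin 6 → F4, (fun i => r (u' i)) = u :=
        ⟨fun i => r.symm (u i), funext fun i => r.apply_symm_apply _⟩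
      obtain ⟨v, rfl⟩ : ∃ v' : Fin 6 → F4, (fun i => r (v' i)) = v :=
        ⟨fun i => r.symm (v i), funext fun i => r.apply_symm_apply _⟩
      show Cfsg.hermForm 6 F 2 (Matrix.mulVec (r.toRingHom.mapMatrix A.1) _)
        (Matrix.mulVec (r.toRingHom.mapMatrix A.1) _) = _
      rw [hmul, hmul, hform, hform]
      exact congrArg r (hA u v)
    · intro hB
      obtain ⟨A, rfl⟩ := M.surjective B
      refine ⟨A, fun u v => ?_, rfl⟩
      have := hB (fun i => r (u i)) (fun i => r (v i))
      change Cfsg.hermForm 6 F 2 (Matrix.mulVec (r.toRingHom.mapMatrix A.1) _)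
        (Matrix.mulVec (r.toRingHom.mapMatrix A.1) _) = _ at this
      rw [hmul, hmul, hform, hform] at this
      exact r.injective this
  exact ⟨(MulEquiv.subgroupMap M _).trans (MulEquiv.subgroupCongr hmem)⟩

theorem map_conj {A B : Type*} [Group A] [Group B] (φ : A ≃* B) (K : Subgroup A) (g : A) :
    (K.map (MulAut.conj g).toMonoidHom).map φ.toMonoidHom =
      (K.map φ.toMonoidHom).map (MulAut.conj (φ g)).toMonoidHom := by
  rw [Subgroup.map_map, Subgroup.map_map]
  refine congrArg (fun f => Subgroup.map f K) (MonoidHom.ext fun x => ?_)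
  simp

theorem map_quotient {A B : Type*} [Group A] [Group B] {M : Type*} [Group M] (φ : A ≃* B) (K : Subgroup A)
    (hc : Nat.card ↥(Subgroup.center ↥K) = 3) (e : ↥K ⧸ Subgroup.center ↥K ≃* M) :
    Nat.card ↥(Subgroup.center ↥(K.map φ.toMonoidHom)) = 3 ∧
      Nonempty (↥(K.map φ.toMonoidHom) ⧸ Subgroup.center ↥(K.map φ.toMonoidHom) ≃* M) := by
  let f := K.equivMapOfInjective φ.toMonoidHom φ.injective
  refine ⟨?_, ⟨(QuotientGroup.congr _ _ f (center_map f)).symm.trans e⟩⟩
  rw [← center_map f, Nat.card_congr ((Subgroup.center ↥K).equivMapOfInjective _ f.injective).toEquiv.symm, hc]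

/-- Three classes of triple covers. -/
theorem three_classes (F : Type) [Field F] [Fintype F] (hF : Fintype.card F = 4) (F9 : Type) [Field F9] [Fintype F9]
    (hF9 : Fintype.card F9 = 9) : ∃ K₁ K₂ K₃ : Subgroup ↥(Cfsg.SU 6 F 2),
    (∀ K ∈ [K₁, K₂, K₃], Nat.card ↥(Subgroup.center ↥K) = 3 ∧
      Nonempty (↥K ⧸ Subgroup.center ↥K ≃* Cfsg.PSU 4 F9 3)) ∧
    (¬ ∃ g : ↥(Cfsg.SU 6 F 2), K₁.map (MulAut.conj g).toMonoidHom = K₂) ∧
    (¬ ∃ g : ↥(Cfsg.SU 6 F 2), K₁.map (MulAut.conj g).toMonoidHom = K₃) ∧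
    (¬ ∃ g : ↥(Cfsg.SU 6 F 2), K₂.map (MulAut.conj g).toMonoidHom = K₃) ∧
    ∀ K : Subgroup ↥(Cfsg.SU 6 F 2), Nat.card ↥(Subgroup.center ↥K) = 3 →
      Nonempty (↥K ⧸ Subgroup.center ↥K ≃* Cfsg.PSU 4 F9 3) →
      ∃ g : ↥(Cfsg.SU 6 F 2), K.map (MulAut.conj g).toMonoidHom = K₁ ∨ K.map (MulAut.conj g).toMonoidHom = K₂ ∨
        K.map (MulAut.conj g).toMonoidHom = K₃ := by
  obtain ⟨φ⟩ := exists_su_equiv hF
  obtain ⟨e9⟩ := nonempty_equiv hF9
  let M := fun k => (model k).map φ.toMonoidHom
  have hprop : ∀ k, Nat.card ↥(Subgroup.center ↥(M k)) = 3 ∧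
      Nonempty (↥(M k) ⧸ Subgroup.center ↥(M k) ≃* Cfsg.PSU 4 F9 3) := fun k => by
    obtain ⟨hc, ⟨e⟩⟩ := model_center k
    exact map_quotient φ (model k) hc (e.trans e9)
  have hnc : ∀ a b : Fin 3, a ≠ b → ¬ ∃ g, (M a).map (MulAut.conj g).toMonoidHom = M b := by
    rintro a b hab ⟨g, hg⟩
    obtain ⟨g, rfl⟩ := φ.surjective g
    refine model_not_conj hab ⟨g, Subgroup.map_injective (f := φ.toMonoidHom) φ.injective ?_⟩
    rw [map_conj]; exact hg
  refine ⟨M 0, M 1, M 2, ?_, hnc 0 1 (by decide), hnc 0 2 (by decide), hnc 1 2 (by decide), ?_⟩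
  · intro K hK
    simp only [List.mem_cons, List.not_mem_nil, or_false] at hK
    rcases hK with rfl | rfl | rfl
    exacts [hprop 0, hprop 1, hprop 2]
  · rintro K hc ⟨e⟩
    let K' := K.map φ.symm.toMonoidHom
    obtain ⟨hc', ⟨e'⟩⟩ := map_quotient φ.symm K hc (e.trans e9.symm)
    obtain ⟨c⟩ := cover_of_iso hc' e'
    obtain ⟨g, k, hgk⟩ := classify c
    have hback : K'.map φ.toMonoidHom = K := by
      rw [Subgroup.map_map, show φ.toMonoidHom.comp φ.symm.toMonoidHom = MonoidHom.id _ from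
        MonoidHom.ext fun x => φ.apply_symm_apply x, Subgroup.map_id]
    have hfin : K.map (MulAut.conj (φ g)).toMonoidHom = M k := by
      rw [← hback, ← map_conj]
      exact congrArg _ hgk
    refine ⟨φ g, ?_⟩
    fin_cases k
    · exact Or.inl hfin
    · exact Or.inr (Or.inl hfin)
    · exact Or.inr (Or.inr hfin)

end CfsgLib.Sporadic.U43Triple
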