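import Mathlib
import Cfsg.Prelude.Def_Classical
import Cfsg.Agent.Lib.Classical.Unitary.Matrix
import Cfsg.Agent.Lib.Recog.SporBound.Fi22U6.FieldFour
import Cfsg.Agent.Lib.Sporadic.U43Triple.Data

/-!
# Monomial subgroups of SU(6, 2)

The diagonal matrices, the monomial groups over a group of permutations, and the elementary facts about
the Sylow 3-subgroup formed by the diagonal matrices and two commuting 3-cycles.
-/

set_option autoImplicit false
set_option maxRecDepth 100000

namespace CfsgLib.Sporadic.U43Triple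

open Matrix Cfsg Equiv
open CfsgLib.Recog.SporBound.Fi22U6 (F4)

/-- The special unitary group in dimension six over four elements. -/
abbrev G : Type := ↥(Cfsg.SU 6 F4 2)

/-- Six by six matrices. -/
abbrev Mat : Type := Matrix (Fin 6) (Fin 6) F4

/-- The matrix of an element. -/
def mat (g : G) : Mat := ((g : Matrix.SpecialLinearGroup (Fin 6) F4) : Mat)

theorem mat_mul (g h : G) : mat (g * h) = mat g * mat h := rfl

theorem mat_one : mat 1 = 1 := rfl

theorem mat_injective : Function.Injective mat := fun _ _ h => Subtype.ext (Subtype.ext h)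

theorem mat_det (g : G) : (mat g).det = 1 := (g : Matrix.SpecialLinearGroup (Fin 6) F4).2

/-- The conjugation of the field. -/
def cj (x : F4) : F4 := x * x

theorem cj_add : ∀ x y : F4, cj (x + y) = cj x + cj y := by decide +kernel
theorem cj_mul : ∀ x y : F4, cj (x * y) = cj x * cj y := by decide +kernel
theorem cj_cj : ∀ x : F4, cj (cj x) = x := by decide +kernel
theorem cj_zero : cj 0 = 0 := by decide +kernel

/-- The conjugate transpose. -/
def star' (A : Mat) : Mat := Matrix.of fun i j => cj (A j i)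

/-- The form. -/
abbrev hf : (Fin 6 → F4) → (Fin 6 → F4) → F4 := Cfsg.hermForm 6 F4 2

theorem hf_eq (u v : Fin 6 → F4) : hf u v = ∑ i, u i * cj (v i) := by
  simp [hf, Cfsg.hermForm, cj, sq]

theorem cj_sum {ι : Type*} (s : Finset ι) (f : ι → F4) : cj (∑ i ∈ s, f i) = ∑ i ∈ s, cj (f i) := by
  classical
  induction s using Finset.induction with
  | empty => simpa using cj_zero
  | insert a s ha ih => rw [Finset.sum_insert ha, Finset.sum_insert ha, cj_add, ih]

theorem cj_mulVec (A : Mat) (v : Fin 6 → F4) : (fun i => cj ((A *ᵥ v) i)) = (Matrix.of fun i j => cj (A i j)) *ᵥ fun j => cj (v j) := by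
  funext i
  simp [Matrix.mulVec, dotProduct, cj_sum, cj_mul]

theorem hf_dot (u v : Fin 6 → F4) : hf u v = u ⬝ᵥ fun i => cj (v i) := hf_eq u v

theorem hf_mulVec {A : Mat} (hA : star' A * A = 1) (u v : Fin 6 → F4) : hf (A *ᵥ u) (A *ᵥ v) = hf u v := by
  rw [hf_dot, hf_dot, cj_mulVec, Matrix.dotProduct_mulVec, ← Matrix.vecMul_transpose, Matrix.vecMul_vecMul]
  have e : Aᵀ * (Matrix.of fun i j => cj (A i j)) = 1 := by
    have h : ((star' A * A)ᵀ) = (1 : Mat) := by rw [hA, Matrix.transpose_one]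
    rw [Matrix.transpose_mul] at h
    exact h
  rw [e, Matrix.vecMul_one]

/-- An element from a unitary matrix of determinant one. -/
def mk (A : Mat) (h : A.det = 1) (hu : star' A * A = 1) : G :=
  ⟨⟨A, h⟩, fun u v => hf_mulVec hu u v⟩

theorem star_mul_self (g : G) : star' (mat g) * mat g = 1 := by
  ext i j
  have h := g.2 (Pi.single j 1) (Pi.single i 1)
  have e1 : hf (Pi.single j 1) (Pi.single i 1) = (1 : Mat) i j := by
    rw [hf_eq]
    simp [Pi.single_apply, Matrix.one_apply, cj, eq_comm]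
  change hf (mat g *ᵥ Pi.single j 1) (mat g *ᵥ Pi.single i 1) = hf (Pi.single j 1) (Pi.single i 1) at h
  rw [e1, hf_eq] at h
  rw [← h, Matrix.mul_apply]
  refine Finset.sum_congr rfl fun k _ => ?_
  simp [star', mul_comm]

theorem mat_inv (g : G) : mat g⁻¹ = star' (mat g) := by
  have h1 : mat g * mat g⁻¹ = 1 := by rw [← mat_mul, mul_inv_cancel, mat_one]
  calc mat g⁻¹ = (star' (mat g) * mat g) * mat g⁻¹ := by rw [star_mul_self, one_mul]
    _ = star' (mat g) := by rw [mul_assoc, h1, mul_one]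

/-- The six by six matrix with given rows of numbers. -/
def rows (l : List (List ℕ)) : Mat := Matrix.of fun i j => F4.ofNat4 ((l.getD i.1 []).getD j.1 0)

/-- The permutation matrix. -/
def pmat (σ : Perm (Fin 6)) : Mat := Matrix.of fun i j => if i = σ j then 1 else 0

theorem pmat_eq (σ : Perm (Fin 6)) : pmat σ = (σ⁻¹ : Perm (Fin 6)).permMatrix F4 := by
  ext i j
  simp only [pmat, Matrix.of_apply, Equiv.Perm.permMatrix, PEquiv.toMatrix_apply, Equiv.toPEquiv_apply,
    Option.mem_def, Option.some.injEq]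
  by_cases h : i = σ j
  · subst h; simp
  · rw [if_neg h, if_neg fun e => h (by rw [← e]; simp)]

theorem sign_one : ∀ u : ℤˣ, ((u : ℤ) : F4) = 1 := by
  intro u
  rcases Int.units_eq_one_or u with rfl | rfl <;> simp <;> decide +kernel

theorem det_pmat (σ : Perm (Fin 6)) : (pmat σ).det = 1 := by
  rw [pmat_eq, Matrix.det_permutation]
  exact sign_one _

theorem pmat_mul (σ τ : Perm (Fin 6)) : pmat σ * pmat τ = pmat (σ * τ) := by
  ext i j
  rw [Matrix.mul_apply, Finset.sum_eq_single (τ j) (fun k _ hk => by simp [pmat, hk]) (by simp)]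
  by_cases h : i = σ (τ j) <;> simp [pmat, h]

theorem star_pmat (σ : Perm (Fin 6)) : star' (pmat σ) * pmat σ = 1 := by
  ext i j
  simp [star', pmat, Matrix.mul_apply, Matrix.one_apply, cj, eq_comm]

/-- Permutations of the coordinates. -/
def permHom : Perm (Fin 6) →* G :=
  MonoidHom.mk' (fun σ => mk (pmat σ) (det_pmat σ) (star_pmat σ)) fun σ τ => mat_injective (pmat_mul σ τ).symm

theorem mat_permHom (σ : Perm (Fin 6)) : mat (permHom σ) = pmat σ := rfl

theorem perm_conj (σ : Perm (Fin 6)) (g : G) (i j : Fin 6) :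
    mat (permHom σ * g * (permHom σ)⁻¹) (σ i) (σ j) = mat g i j := by
  rw [mat_mul, mat_mul, mat_inv, mat_permHom]
  simp [pmat, star', Matrix.mul_apply, cj]

/-- The monomial elements over a group of permutations. -/
def monoSub (H : Subgroup (Perm (Fin 6))) : Subgroup G :=
  let S : Submonoid G :=
    { carrier := {g | ∃ σ ∈ H, ∀ i j, i ≠ σ j → mat g i j = 0}
      one_mem' := ⟨1, H.one_mem, fun i j h => by rw [mat_one]; exact Matrix.one_apply_ne h⟩
      mul_mem' := by
        rintro g h ⟨σ, hσ, hg⟩ ⟨τ, hτ, hh⟩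
        refine ⟨σ * τ, H.mul_mem hσ hτ, fun i j hij => ?_⟩
        rw [mat_mul, Matrix.mul_apply]
        refine Finset.sum_eq_zero fun k _ => ?_
        by_cases hk : k = τ j
        · subst hk; rw [hg i (τ j) hij, zero_mul]
        · rw [hh k j hk, mul_zero] }
  { S with
    inv_mem' := fun {g} hg => by
      have := pow_mem (show g ∈ S from hg) (orderOf g - 1)
      have e : g⁻¹ = g ^ (orderOf g - 1) := by
        rw [inv_eq_iff_mul_eq_one, ← pow_succ', Nat.sub_add_cancel (orderOf_pos g), pow_orderOf_eq_one]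
      show g⁻¹ ∈ S
      rw [e]; exact this }

theorem mem_monoSub {H : Subgroup (Perm (Fin 6))} {g : G} :
    g ∈ monoSub H ↔ ∃ σ ∈ H, ∀ i j, i ≠ σ j → mat g i j = 0 := Iff.rfl

theorem monoSub_mono {H K : Subgroup (Perm (Fin 6))} (h : H ≤ K) : monoSub H ≤ monoSub K :=
  fun _ ⟨σ, hσ, hg⟩ => ⟨σ, h hσ, hg⟩

/-- The diagonal elements. -/
def diagSub : Subgroup G := monoSub ⊥
/-- All monomial elements. -/
def monoTop : Subgroup G := monoSub ⊤
/-- The diagonal elements with the even permutations. -/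
def monoEven : Subgroup G := monoSub (alternatingGroup (Fin 6))

theorem diag_le (H : Subgroup (Perm (Fin 6))) : diagSub ≤ monoSub H := monoSub_mono bot_le

theorem mem_diagSub {g : G} : g ∈ diagSub ↔ ∀ i j, i ≠ j → mat g i j = 0 := by
  constructor
  · rintro ⟨σ, hσ, h⟩
    rw [Subgroup.mem_bot] at hσ
    subst hσ
    simpa using h
  · exact fun h => ⟨1, Subgroup.one_mem _, by simpa using h⟩

theorem permHom_mem {H : Subgroup (Perm (Fin 6))} {σ : Perm (Fin 6)} (h : σ ∈ H) : permHom σ ∈ monoSub H :=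
  ⟨σ, h, fun i j hij => by rw [mat_permHom]; exact if_neg hij⟩

theorem exists_decomp {H : Subgroup (Perm (Fin 6))} {g : G} (hg : g ∈ monoSub H) :
    ∃ e ∈ diagSub, ∃ σ ∈ H, g = e * permHom σ := by
  obtain ⟨σ, hσ, h⟩ := hg
  refine ⟨g * (permHom σ)⁻¹, mem_diagSub.2 fun i j hij => ?_, σ, hσ, by group⟩
  rw [mat_mul, mat_inv, mat_permHom, Matrix.mul_apply]
  refine Finset.sum_eq_zero fun k _ => ?_
  by_cases hk : i = σ k
  · have : j ≠ σ k := hk ▸ hij.symm
    simp [star', pmat, this, cj_zero]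
  · rw [h i k hk, zero_mul]

theorem decomp_unique {e e' : G} {σ σ' : Perm (Fin 6)} (he : e ∈ diagSub) (he' : e' ∈ diagSub)
    (h : e * permHom σ = e' * permHom σ') : e = e' ∧ σ = σ' := by
  have hd : permHom (σ' * σ⁻¹) ∈ diagSub := by
    have : permHom (σ' * σ⁻¹) = e'⁻¹ * e := by
      rw [map_mul, map_inv, eq_inv_mul_iff_mul_eq, ← mul_assoc, ← h, mul_inv_cancel_right]
    rw [this]
    exact mul_mem (inv_mem he') he
  have hσ : σ = σ' := by
    refine (mul_inv_eq_one.1 (Equiv.ext fun j => ?_)).symm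
    show (σ' * σ⁻¹) j = j
    by_contra hne
    have := mem_diagSub.1 hd _ j hne
    rw [mat_permHom, pmat, Matrix.of_apply, if_pos rfl] at this
    exact one_ne_zero this
  subst hσ
  exact ⟨mul_right_cancel h, rfl⟩

theorem card_monoSub (H : Subgroup (Perm (Fin 6))) : Nat.card ↥(monoSub H) = Nat.card ↥diagSub * Nat.card ↥H := by
  rw [← Nat.card_prod]
  refine (Nat.card_eq_of_bijective (fun p : ↥diagSub × ↥H =>
    (⟨p.1.1 * permHom p.2.1, mul_mem (diag_le H p.1.2) (permHom_mem p.2.2)⟩ : ↥(monoSub H)))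
    ⟨fun p q h => ?_, fun g => ?_⟩).symm
  · obtain ⟨h1, h2⟩ := decomp_unique p.1.2 q.1.2 (congrArg Subtype.val h)
    exact Prod.ext (Subtype.ext h1) (Subtype.ext h2)
  · obtain ⟨e, he, σ, hσ, e'⟩ := exists_decomp g.2
    exact ⟨(⟨e, he⟩, ⟨σ, hσ⟩), Subtype.ext e'.symm⟩

/-- The conditions on the diagonal of a diagonal element. -/
def DiagOK (d : Fin 6 → F4) : Prop := (∀ i, cj (d i) * d i = 1) ∧ ∏ i, d i = 1

instance : DecidablePred DiagOK := fun d => inferInstanceAs (Decidable (_ ∧ _))

theorem star_diagonal {d : Fin 6 → F4} (h : DiagOK d) : star' (diagonal d) * diagonal d = 1 := by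
  have : star' (diagonal d) = diagonal (fun i => cj (d i)) := by
    ext i j
    by_cases hij : i = j
    · subst hij; simp [star']
    · simp [star', Matrix.diagonal_apply_ne _ hij, Matrix.diagonal_apply_ne _ (Ne.symm hij), cj_zero]
  rw [this, Matrix.diagonal_mul_diagonal, ← Matrix.diagonal_one]
  exact congrArg diagonal (funext h.1)

/-- A diagonal element. -/
def dElt (d : Fin 6 → F4) (h : DiagOK d) : G := mk (diagonal d) (by rw [det_diagonal]; exact h.2) (star_diagonal h)

theorem mat_dElt (d : Fin 6 → F4) (h : DiagOK d) : mat (dElt d h) = diagonal d := rfl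

theorem dElt_mem (d : Fin 6 → F4) (h : DiagOK d) : dElt d h ∈ diagSub :=
  mem_diagSub.2 fun _ _ hij => Matrix.diagonal_apply_ne _ hij

theorem mat_diag {g : G} (hg : g ∈ diagSub) : mat g = diagonal (fun i => mat g i i) := by
  ext i j
  by_cases h : i = j
  · subst h; simp
  · rw [Matrix.diagonal_apply_ne _ h, mem_diagSub.1 hg i j h]

theorem diagOK_of_mem {g : G} (hg : g ∈ diagSub) : DiagOK (fun i => mat g i i) := by
  refine ⟨fun i => ?_, ?_⟩
  · have h := congrFun (congrFun (star_mul_self g) i) i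
    rw [Matrix.one_apply_eq, Matrix.mul_apply, Finset.sum_eq_single i (fun k _ hk => by
      rw [mem_diagSub.1 hg k i hk, mul_zero]) (by simp)] at h
    exact h
  · have h := mat_det g
    rwa [mat_diag hg, det_diagonal] at h

/-- Diagonal elements as their diagonals. -/
noncomputable def diagEquiv : ↥diagSub ≃ {d : Fin 6 → F4 // DiagOK d} where
  toFun g := ⟨fun i => mat g.1 i i, diagOK_of_mem g.2⟩
  invFun d := ⟨dElt d.1 d.2, dElt_mem d.1 d.2⟩
  left_inv g := Subtype.ext (mat_injective (mat_diag g.2).symm)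
  right_inv d := Subtype.ext (funext fun i => Matrix.diagonal_apply_eq _ _)

theorem card_diagSub : Nat.card ↥diagSub = 243 := by
  rw [Nat.card_congr diagEquiv, Nat.card_eq_fintype_card, Fintype.card_subtype]
  decide +kernel

/-- Two commuting 3-cycles. -/
def cycA : Perm (Fin 6) := Equiv.swap 0 1 * Equiv.swap 1 2
/-- The other one. -/
def cycB : Perm (Fin 6) := Equiv.swap 3 4 * Equiv.swap 4 5

theorem nine_closed : (∀ a b c d : Fin 3, ∃ e f : Fin 3,
      cycA ^ a.1 * cycB ^ b.1 * (cycA ^ c.1 * cycB ^ d.1) = cycA ^ e.1 * cycB ^ f.1) ∧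
    (∀ a b : Fin 3, ∃ e f : Fin 3, (cycA ^ a.1 * cycB ^ b.1)⁻¹ = cycA ^ e.1 * cycB ^ f.1) ∧
    (∀ a b c d : Fin 3, cycA ^ a.1 * cycB ^ b.1 = cycA ^ c.1 * cycB ^ d.1 → a = c ∧ b = d) ∧
    ∀ a b : Fin 3, Equiv.Perm.sign (cycA ^ a.1 * cycB ^ b.1) = 1 := by
  decide +kernel

/-- The group of order nine they generate. -/
def nine : Subgroup (Perm (Fin 6)) where
  carrier := Set.range fun p : Fin 3 × Fin 3 => cycA ^ p.1.1 * cycB ^ p.2.1
  one_mem' := ⟨(0, 0), by simp⟩
  mul_mem' := by
    rintro _ _ ⟨⟨a, b⟩, rfl⟩ ⟨⟨c, d⟩, rfl⟩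
    obtain ⟨e, f, h⟩ := nine_closed.1 a b c d
    exact ⟨(e, f), h.symm⟩
  inv_mem' := by
    rintro _ ⟨⟨a, b⟩, rfl⟩
    obtain ⟨e, f, h⟩ := nine_closed.2.1 a b
    exact ⟨(e, f), h.symm⟩

theorem card_nine : Nat.card ↥nine = 9 := by
  have h : Function.Injective fun p : Fin 3 × Fin 3 => cycA ^ p.1.1 * cycB ^ p.2.1 := fun p q h => by
    obtain ⟨h1, h2⟩ := nine_closed.2.2.1 _ _ _ _ h
    exact Prod.ext h1 h2
  show Nat.card ↥(Set.range fun p : Fin 3 × Fin 3 => cycA ^ p.1.1 * cycB ^ p.2.1) = 9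
  rw [Nat.card_range_of_injective h, Nat.card_prod, Nat.card_fin]

theorem nine_le_alt : nine ≤ alternatingGroup (Fin 6) := by
  rintro _ ⟨⟨a, b⟩, rfl⟩
  exact Equiv.Perm.mem_alternatingGroup.2 (nine_closed.2.2.2 a b)

/-- The Sylow 3-subgroup. -/
def sylowThree : Subgroup G := monoSub nine

theorem card_sylowThree : Nat.card ↥sylowThree = 2187 := by
  rw [sylowThree, card_monoSub, card_diagSub, card_nine]

theorem card_monoEven : Nat.card ↥monoEven = 87480 := by
  rw [monoEven, card_monoSub, card_diagSub]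
  have h := nat_card_alternatingGroup (α := Fin 6)
  rw [Nat.card_fin] at h
  rw [h]; rfl

theorem card_monoTop : Nat.card ↥monoTop = 174960 := by
  rw [monoTop, card_monoSub, card_diagSub, Nat.card_congr Subgroup.topEquiv.toEquiv, Nat.card_perm, Nat.card_fin]
  rfl

theorem card_G : Nat.card G = 27590492160 := by
  have h := CfsgLib.Classical.Herm.card_SU (F := F4) (q := 2) CfsgLib.Recog.SporBound.Fi22U6.F4.card 6 (by norm_num)
  norm_num [Finset.prod_range_succ, Nat.even_iff] at h
  show Nat.card ↥(Cfsg.SU 6 F4 2) = _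
  omega

/-- An element whose rows have at most one non-zero entry is monomial. -/
theorem monoTop_of_rows {g : G} (h : ∀ i j k, mat g i j ≠ 0 → mat g i k ≠ 0 → j = k) : g ∈ monoTop := by
  have hcol : ∀ j, ∃ i, mat g i j ≠ 0 := fun j => by
    by_contra hj
    push Not at hj
    exact one_ne_zero ((mat_det g).symm.trans (Matrix.det_eq_zero_of_column_eq_zero j hj))
  choose f hf using hcol
  have hinj : Function.Injective f := fun a b e => h _ a b (hf a) (e ▸ hf b)
  refine ⟨Equiv.ofBijective f (Finite.injective_iff_bijective.1 hinj), Subgroup.mem_top _, fun i j hij => ?_⟩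
  by_contra hne
  obtain ⟨k, hk⟩ := (Finite.injective_iff_bijective.1 hinj).2 i
  have : k = j := h i k j (hk ▸ hf k) hne
  exact hij (by rw [← hk, this]; rfl)

end CfsgLib.Sporadic.U43Triple
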