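import Cfsg.Agent.Lib.Sporadic.U43Triple.Group
import Cfsg.Agent.Lib.Known.U43Mult.Points
import Cfsg.Agent.S2150

/-!
# A triple cover of PSU(4, 3) inside SU(6, 2)

The group generated by the diagonal matrices, the even permutations and one further matrix permutes 126
isotropic points as the group of minus type in dimension six over three elements does.
-/

set_option autoImplicit false
set_option maxRecDepth 100000
set_option maxHeartbeats 2000000

namespace CfsgLib.Sporadic.U43Triple

open Matrix Cfsg Equiv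
open CfsgLib.Recog.SporBound.Fi22U6 (F4)
open CfsgLib.Known.U43Mult (Mdl phi mgen gperm ginv phi_injective rep_mgen ginv_check mdl_spec nonempty_equiv)
open CfsgLib.Schur.Cert CfsgLib.Sporadic

theorem omDiag_ok : DiagOK ![F4.om, F4.om', 1, 1, 1, 1] := by decide +kernel

/-- A diagonal generator. -/
def gDiag : G := dElt _ omDiag_ok

/-- A 5-cycle. -/
def cycFive : Perm (Fin 6) := Equiv.swap 1 2 * Equiv.swap 2 3 * Equiv.swap 3 4 * Equiv.swap 4 5

/-- A block matrix. -/
def blk (i j : ℕ) : Mat :=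
  rows ((uRows.getD i []).map (· ++ [0, 0, 0]) ++ (uRows.getD j []).map ([0, 0, 0] ++ ·))

theorem blk_ok : ∀ i : Fin 4, (blk i 0).det = 1 ∧ star' (blk i 0) * blk i 0 = 1 ∧
    (blk 0 i).det = 1 ∧ star' (blk 0 i) * blk 0 i = 1 := by decide +kernel

/-- The frame representatives in the first block. -/
def blockA (i : Fin 4) : G := mk _ (blk_ok i).1 (blk_ok i).2.1
/-- The frame representatives in the second block. -/
def blockB (i : Fin 4) : G := mk _ (blk_ok i).2.2.1 (blk_ok i).2.2.2

/-- The odd transposition. -/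
def sigElt : G := permHom (Equiv.swap 0 1)

/-- The representative of a coset. -/
def rep (i j : Fin 4) (e : Fin 2) : G := blockA i * blockB j * sigElt ^ e.1

/-- The further generator. -/
def rZero : G := rep 1 1 1

/-- The generators. -/
def genK : ℕ → G
  | 0 => gDiag
  | 1 => permHom cycA
  | 2 => permHom cycFive
  | _ => rZero

/-- The model. -/
def triple : Subgroup G := Subgroup.closure (Set.range fun k : Fin 4 => genK k)

theorem gen_mem (k : Fin 4) : genK k ∈ triple := Subgroup.subset_closure ⟨k, rfl⟩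

/-- The number of non-zero coordinates. -/
def weight (v : Fin 6 → F4) : ℕ := (Finset.univ.filter fun i => v i ≠ 0).card

/-- The vectors of the 126 points of a model. -/
def Om (c : F4) (v : Fin 6 → F4) : Prop := weight v = 2 ∨ (weight v = 6 ∧ ∏ i, v i = c)

instance (c : F4) : DecidablePred (Om c) := fun _ => inferInstanceAs (Decidable (_ ∨ _))

/-- The stabiliser of a set of points. -/
def stabOm (c : F4) : Subgroup G :=
  let S : Submonoid G :=
    { carrier := {g | ∀ v, Om c v → Om c (mat g *ᵥ v)}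
      one_mem' := fun v h => by rwa [mat_one, Matrix.one_mulVec]
      mul_mem' := fun {g h} hg hh v hv => by
        rw [mat_mul, ← Matrix.mulVec_mulVec]
        exact hg _ (hh v hv) }
  { S with
    inv_mem' := fun {g} hg => by
      have := pow_mem (show g ∈ S from hg) (orderOf g - 1)
      have e : g⁻¹ = g ^ (orderOf g - 1) := by
        rw [inv_eq_iff_mul_eq_one, ← pow_succ', Nat.sub_add_cancel (orderOf_pos g), pow_orderOf_eq_one]
      show g⁻¹ ∈ S
      rw [e]; exact this }

theorem mem_stabOm {c : F4} {g : G} : g ∈ stabOm c ↔ ∀ v, Om c v → Om c (mat g *ᵥ v) := Iff.rfl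

theorem gen_stab_mono : ∀ k : Fin 3, ∀ v, Om 1 v → Om 1 (mat (genK k) *ᵥ v) := by decide +kernel

theorem rZero_stab : ∀ v, Om 1 v →
    Om 1 (blk 1 0 *ᵥ (blk 0 1 *ᵥ (pmat (Equiv.swap 0 1) *ᵥ v))) := by decide +kernel

theorem mat_rZero : mat rZero = blk 1 0 * blk 0 1 * pmat (Equiv.swap 0 1) := by
  show mat (blockA 1 * blockB 1 * sigElt ^ 1) = _
  rw [pow_one]; rfl

theorem gen_stab : ∀ k : Fin 4, ∀ v, Om 1 v → Om 1 (mat (genK k) *ᵥ v) := by
  intro k v hv
  fin_cases k
  · exact gen_stab_mono 0 v hv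
  · exact gen_stab_mono 1 v hv
  · exact gen_stab_mono 2 v hv
  · show Om 1 (mat rZero *ᵥ v)
    rw [mat_rZero, ← Matrix.mulVec_mulVec, ← Matrix.mulVec_mulVec]
    exact rZero_stab v hv

theorem triple_le_stab : triple ≤ stabOm 1 := by
  rw [triple, Subgroup.closure_le]
  rintro _ ⟨k, rfl⟩
  exact gen_stab k

/-- The code of a vector. -/
def code (v : Fin 6 → F4) : ℕ :=
  (v 0).num + 4 * (v 1).num + 16 * (v 2).num + 64 * (v 3).num + 256 * (v 4).num + 1024 * (v 5).num

/-- The label of a vector. -/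
def idx (v : Fin 6 → F4) : ℕ := Nat.land (Nat.shiftRight idxData (10 * code v)) 1023

/-- The vector of a label. -/
def ptv (k : ℕ) : Fin 6 → F4 :=
  fun i => F4.ofNat4 (Nat.land (Nat.shiftRight ptData (12 * k)) 4095 / 4 ^ i.1 % 4)

theorem pt_check : ∀ k : Fin 126, Om 1 (ptv k) ∧ idx (ptv k) = k := by decide +kernel

theorem vec_check : ∀ v : Fin 6 → F4, Om 1 v →
    idx v < 126 ∧ (∃ c : F4, c ≠ 0 ∧ v = c • ptv (idx v)) ∧ ∀ c : F4, c ≠ 0 → idx (c • v) = idx v := by
  decide +kernel

/-- The image of a point. -/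
def img (g : ↥(stabOm 1)) (k : Fin 126) : Fin 126 :=
  ⟨idx (mat g.1 *ᵥ ptv k), (vec_check _ (g.2 _ (pt_check k).1)).1⟩

theorem img_one (k : Fin 126) : img 1 k = k := Fin.ext (by
  show idx (mat 1 *ᵥ ptv k) = k
  rw [mat_one, Matrix.one_mulVec]
  exact (pt_check k).2)

theorem img_mul (g h : ↥(stabOm 1)) (k : Fin 126) : img (g * h) k = img g (img h k) := Fin.ext (by
  have hv := h.2 _ (pt_check k).1
  obtain ⟨hlt, ⟨c, hc, e⟩, -⟩ := vec_check _ hv
  show idx (mat (g.1 * h.1) *ᵥ ptv k) = idx (mat g.1 *ᵥ ptv (idx (mat h.1 *ᵥ ptv k)))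
  rw [mat_mul, ← Matrix.mulVec_mulVec]
  conv_lhs => rw [e, Matrix.mulVec_smul]
  exact (vec_check _ (g.2 _ (pt_check ⟨_, hlt⟩).1)).2.2 c hc)

/-- The action on the points. -/
def act : ↥(stabOm 1) →* Perm (Fin 126) where
  toFun g :=
    { toFun := img g
      invFun := img g⁻¹
      left_inv := fun i => by rw [← img_mul, inv_mul_cancel, img_one]
      right_inv := fun i => by rw [← img_mul, mul_inv_cancel, img_one] }
  map_one' := Equiv.ext img_one
  map_mul' g h := Equiv.ext fun i => img_mul g h i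

theorem img_words : ∀ k : Fin 4, (genWords.getD k []).all (fun l => decide (l.1 < 2)) = true ∧
    ∀ x : Fin 126, wordImgN gperm ginv (genWords.getD k []) x = idx (mat (genK k) *ᵥ ptv x) := by
  decide +kernel

theorem act_mem_range (g : ↥(stabOm 1)) (hg : g.1 ∈ triple) : act g ∈ phi.range := by
  have hle : triple ≤ (phi.range.comap act).map (stabOm 1).subtype := by
    rw [triple, Subgroup.closure_le]
    rintro _ ⟨k, rfl⟩
    refine ⟨⟨genK k, gen_stab k⟩, ⟨wval mgen (genWords.getD k []), Equiv.ext fun x => Fin.ext ?_⟩, rfl⟩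
    obtain ⟨hw, himg⟩ := img_words k
    simp only [List.all_eq_true, decide_eq_true_eq] at hw
    show _ = idx (mat (genK k) *ᵥ ptv x)
    rw [← himg x, wordImgN_spec phi (b := mgen) (m := 2) rep_mgen
      (fun j hj => RepN.inv (rep_mgen j hj) (forallLt_elim ginv_check.1 hj)) _ hw x]
  obtain ⟨g', hg', e⟩ := hle hg
  rw [show g = g' from Subtype.ext e.symm]
  exact hg'

/-- The projection onto the simple group. -/
noncomputable def rho : ↥triple →* Mdl :=
  (MonoidHom.ofInjective phi_injective).symm.toMonoidHom.comp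
    ((act.comp (Subgroup.inclusion triple_le_stab)).codRestrict phi.range fun g => act_mem_range _ g.2)

theorem phi_rho (g : ↥triple) : phi (rho g) = act ⟨g.1, triple_le_stab g.2⟩ := by
  have h := (MonoidHom.ofInjective phi_injective).apply_symm_apply
    (((act.comp (Subgroup.inclusion triple_le_stab)).codRestrict phi.range fun g => act_mem_range _ g.2) g)
  have h' := congrArg Subtype.val h
  rw [MonoidHom.ofInjective_apply] at h'
  exact h'

theorem two_check : ∀ i j : Fin 6, i ≠ j → ∀ a : F4, a ≠ 0 → Om 1 (Pi.single i 1 + Pi.single j a) := by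
  decide +kernel

/-- Scalar elements. -/
def IsScalar (g : G) : Prop := ∃ a : F4, mat g = a • (1 : Mat)

theorem eq_scalar {g : G} (h : ∀ v, Om 1 v → ∃ c : F4, mat g *ᵥ v = c • v) : IsScalar g := by
  have hoff : ∀ i j k : Fin 6, i ≠ j → k ≠ j → k ≠ i → mat g k i = 0 := by
    intro i j k hij hkj hki
    obtain ⟨c1, e1⟩ := h _ (two_check i j hij 1 one_ne_zero)
    obtain ⟨c2, e2⟩ := h _ (two_check i j hij F4.om (by decide))
    have f1 := congrFun e1 k
    have f2 := congrFun e2 k
    simp [Matrix.mulVec_add, Matrix.mulVec_single, hkj, hki] at f1 f2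
    have key : ∀ x y : F4, x + y = 0 → x + y * F4.om = 0 → x = 0 := by decide
    exact key _ _ f1 (by simpa [mul_comm] using f2)
  have hd : ∀ i k : Fin 6, k ≠ i → mat g k i = 0 := fun i k hki => by
    have hex : ∀ i k : Fin 6, ∃ j, i ≠ j ∧ k ≠ j := by decide
    obtain ⟨j, h1, h2⟩ := hex i k
    exact hoff i j k h1 h2 hki
  have heq : ∀ i j : Fin 6, i ≠ j → mat g i i = mat g j j := by
    intro i j hij
    obtain ⟨c, e⟩ := h _ (two_check i j hij 1 one_ne_zero)
    have f1 := congrFun e i
    have f2 := congrFun e j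
    simp [Matrix.mulVec_add, Matrix.mulVec_single, hij, hij.symm, hd j i hij, hd i j hij.symm] at f1 f2
    rw [f1, f2]
  refine ⟨mat g 0 0, ?_⟩
  ext i j
  by_cases hij : i = j
  · subst hij
    by_cases hi : i = 0
    · subst hi; simp
    · simp [heq i 0 hi]
  · simp [hd j i hij, hij]

theorem rho_eq_one_iff {g : ↥triple} : rho g = 1 ↔ IsScalar g.1 := by
  have hphi : rho g = 1 ↔ act ⟨g.1, triple_le_stab g.2⟩ = 1 := by
    rw [← phi_rho]
    exact ⟨fun h => by rw [h, map_one], fun h => phi_injective (by rw [h, map_one])⟩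
  rw [hphi]
  constructor
  · intro h
    refine eq_scalar fun v hv => ?_
    obtain ⟨hlt, ⟨c, hc, e⟩, -⟩ := vec_check v hv
    have h' : idx (mat g.1 *ᵥ ptv (idx v)) = idx v :=
      congrArg Fin.val (congrArg (fun σ : Perm (Fin 126) => σ ⟨idx v, hlt⟩) h)
    obtain ⟨-, ⟨d, hd, e'⟩, -⟩ := vec_check _ (triple_le_stab g.2 _ (pt_check ⟨idx v, hlt⟩).1)
    rw [h'] at e'
    refine ⟨d, ?_⟩
    calc mat g.1 *ᵥ v = c • (mat g.1 *ᵥ ptv (idx v)) := by conv_lhs => rw [e, Matrix.mulVec_smul]
      _ = d • (c • ptv (idx v)) := by rw [e', smul_comm]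
      _ = d • v := by rw [← e]
  · rintro ⟨a, ha⟩
    refine Equiv.ext fun k => Fin.ext ?_
    show idx (mat g.1 *ᵥ ptv k) = k
    have ha0 : a ≠ 0 := fun h0 => by
      have := mat_det g.1
      rw [ha, h0, zero_smul, Matrix.det_zero] at this
      exact zero_ne_one this
    rw [ha, Matrix.smul_mulVec, Matrix.one_mulVec, (vec_check _ (pt_check k).1).2.2 a ha0]
    exact (pt_check k).2

theorem scalar_mem_diag {g : G} (h : IsScalar g) : g ∈ diagSub := by
  obtain ⟨a, ha⟩ := h
  exact mem_diagSub.2 fun i j hij => by rw [ha]; simp [hij]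

/-- Products of the two permutation generators. -/
def cycVal (w : List ℕ) : Perm (Fin 6) := (w.map fun k => if k = 0 then cycA else cycFive).prod

theorem cyc_cover : ∀ σ : Perm (Fin 6), σ.support.card = 3 →
    (cycWords.any fun w => decide (cycVal w = σ)) = true := by decide +kernel

theorem permHom_even {σ : Perm (Fin 6)} (h : σ ∈ alternatingGroup (Fin 6)) : permHom σ ∈ triple := by
  suffices hle : alternatingGroup (Fin 6) ≤ triple.comap permHom from hle h
  rw [← Equiv.Perm.closure_three_cycles_eq_alternating, Subgroup.closure_le]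
  intro τ hτ
  have hm : ∀ w : List ℕ, cycVal w ∈ triple.comap permHom := fun w => by
    refine list_prod_mem fun x hx => ?_
    obtain ⟨k, -, rfl⟩ := List.mem_map.1 hx
    split_ifs
    · exact gen_mem 1
    · exact gen_mem 2
  have h' := cyc_cover τ (Equiv.Perm.IsThreeCycle.card_support hτ)
  simp only [List.any_eq_true, decide_eq_true_eq] at h'
  obtain ⟨w, -, rfl⟩ := h'
  exact hm w

/-- The diagonal elements with two non-trivial neighbouring entries. -/
def adjDiag (k : Fin 5) : Fin 6 → F4 :=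
  fun i => if i = k.castSucc then F4.om else if i = k.succ then F4.om' else 1

theorem adjDiag_ok : ∀ k, DiagOK (adjDiag k) := by decide +kernel

/-- These elements. -/
def adjElt (k : Fin 5) : G := dElt _ (adjDiag_ok k)

theorem adj_conj : ∀ k : Fin 5, ∃ σ : Perm (Fin 6), Equiv.Perm.sign σ = 1 ∧ σ 0 = k.castSucc ∧ σ 1 = k.succ := by
  decide +kernel

theorem adjElt_mem (k : Fin 5) : adjElt k ∈ triple := by
  obtain ⟨σ, hs, h0, h1⟩ := adj_conj k
  have hp : permHom σ ∈ triple := permHom_even (Equiv.Perm.mem_alternatingGroup.2 hs)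
  have e : adjElt k = permHom σ * gDiag * (permHom σ)⁻¹ := by
    refine mat_injective ?_
    ext i j
    obtain ⟨i, rfl⟩ := σ.surjective i
    obtain ⟨j, rfl⟩ := σ.surjective j
    rw [perm_conj, adjElt, gDiag, mat_dElt, mat_dElt]
    by_cases hij : i = j
    · subst hij
      rw [Matrix.diagonal_apply_eq, Matrix.diagonal_apply_eq]
      simp only [adjDiag, ← h0, ← h1, σ.injective.eq_iff]
      fin_cases i <;> rfl
    · rw [Matrix.diagonal_apply_ne _ hij, Matrix.diagonal_apply_ne _ (σ.injective.ne hij)]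
  rw [e]
  exact mul_mem (mul_mem hp (gen_mem 0)) (inv_mem hp)

/-- The exponent of a power of a root of unity. -/
def expo : F4 → Fin 3
  | .om => 1
  | .om' => 2
  | _ => 0

/-- The exponents of a diagonal on the neighbouring elements. -/
def adjExp (d : Fin 6 → F4) : Fin 5 → Fin 3 :=
  ![expo (d 0), expo (d 0) + expo (d 1), expo (d 0) + expo (d 1) + expo (d 2),
    expo (d 0) + expo (d 1) + expo (d 2) + expo (d 3), expo (d 0) + expo (d 1) + expo (d 2) + expo (d 3) + expo (d 4)]

theorem adj_exp_check : ∀ d : Fin 6 → F4, DiagOK d → ∀ i, d i = ∏ k, adjDiag k i ^ (adjExp d k).1 := by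
  decide +kernel

theorem adj_span (d : Fin 6 → F4) (hd : DiagOK d) : ∃ n : Fin 5 → Fin 3, ∀ i, d i = ∏ k, adjDiag k i ^ (n k).1 :=
  ⟨adjExp d, adj_exp_check d hd⟩

theorem diag_eq_prod {g : G} (hg : g ∈ diagSub) :
    ∃ n : Fin 5 → Fin 3, g = adjElt 0 ^ (n 0).1 * adjElt 1 ^ (n 1).1 * adjElt 2 ^ (n 2).1 * adjElt 3 ^ (n 3).1 *
      adjElt 4 ^ (n 4).1 := by
  obtain ⟨n, hn⟩ := adj_span _ (diagOK_of_mem hg)
  refine ⟨n, mat_injective ?_⟩
  have hpow : ∀ (k : Fin 5) (m : ℕ), mat (adjElt k ^ m) = diagonal (fun i => adjDiag k i ^ m) := fun k m => by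
    induction m with
    | zero => simp [mat_one, Matrix.diagonal_one]
    | succ m ih => rw [pow_succ, mat_mul, ih, adjElt, mat_dElt, Matrix.diagonal_mul_diagonal]; simp [pow_succ]
  rw [mat_mul, mat_mul, mat_mul, mat_mul, hpow, hpow, hpow, hpow, hpow, mat_diag hg]
  simp only [Matrix.diagonal_mul_diagonal]
  refine congrArg diagonal (funext fun i => ?_)
  rw [hn i, Fin.prod_univ_five]

theorem monoEven_le_triple : monoEven ≤ triple := by
  intro g hg
  obtain ⟨e, he, σ, hσ, rfl⟩ := exists_decomp hg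
  obtain ⟨n, rfl⟩ := diag_eq_prod he
  exact mul_mem (mul_mem (mul_mem (mul_mem (mul_mem (pow_mem (adjElt_mem 0) _) (pow_mem (adjElt_mem 1) _))
    (pow_mem (adjElt_mem 2) _)) (pow_mem (adjElt_mem 3) _)) (pow_mem (adjElt_mem 4) _)) (permHom_even hσ)

theorem scalar_in_triple {g : G} (h : IsScalar g) : g ∈ triple :=
  monoEven_le_triple (diag_le _ (scalar_mem_diag h))

/-- The scalars. -/
def scalarVec (k : Fin 3) : Fin 6 → F4 := fun _ => F4.om ^ k.1

theorem scalarVec_ok : ∀ k, DiagOK (scalarVec k) := by decide +kernel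

theorem card_ker : Nat.card ↥rho.ker = 3 := by
  have hs : ∀ k, IsScalar (dElt _ (scalarVec_ok k)) := fun k => ⟨F4.om ^ k.1, by
    rw [mat_dElt, Matrix.smul_one_eq_diagonal]
    rfl⟩
  refine (Nat.card_eq_of_bijective (fun k : Fin 3 => (⟨⟨_, scalar_in_triple (hs k)⟩,
    MonoidHom.mem_ker.2 (rho_eq_one_iff.2 (hs k))⟩ : ↥rho.ker)) ⟨?_, ?_⟩).symm.trans (Nat.card_fin 3)
  · intro a b h
    have h' : mat (dElt _ (scalarVec_ok a)) = mat (dElt _ (scalarVec_ok b)) :=
      congrArg (fun x : ↥rho.ker => mat x.1.1) h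
    rw [mat_dElt, mat_dElt] at h'
    have hinj : ∀ a b : Fin 3, scalarVec a 0 = scalarVec b 0 → a = b := by decide
    exact hinj a b (congrFun (Matrix.diagonal_injective h') 0)
  · rintro ⟨g, hg⟩
    obtain ⟨a, ha⟩ := rho_eq_one_iff.1 (MonoidHom.mem_ker.1 hg)
    have hok := diagOK_of_mem (scalar_mem_diag ⟨a, ha⟩)
    have hall : ∀ a : F4, DiagOK (fun _ => a) → ∃ k : Fin 3, scalarVec k = fun _ => a := by decide +kernel
    rw [ha] at hok
    obtain ⟨k, hk⟩ := hall a (by simpa using hok)
    refine ⟨k, Subtype.ext (Subtype.ext (mat_injective ?_))⟩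
    show mat (dElt _ (scalarVec_ok k)) = mat g.1
    rw [mat_dElt, hk, ha, Matrix.smul_one_eq_diagonal]

theorem rZero_not_monoTop : rZero ∉ monoTop := by
  rintro ⟨σ, -, h⟩
  have hex : ∀ s : Fin 6, ∃ i, i ≠ s ∧ mat rZero i 0 ≠ 0 := by decide +kernel
  obtain ⟨i, h1, h2⟩ := hex (σ 0)
  exact h2 (h i 0 h1)

theorem rho_surjective : Function.Surjective rho := by
  let H : Subgroup Mdl := (monoEven.subgroupOf triple).map rho
  have hker : rho.ker ≤ monoEven.subgroupOf triple := fun g hg =>
    Subgroup.mem_subgroupOf.2 (diag_le _ (scalar_mem_diag (rho_eq_one_iff.1 (MonoidHom.mem_ker.1 hg))))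
  have hcard : Nat.card ↥H = 29160 := by
    let S := monoEven.subgroupOf triple
    have hq := Subgroup.card_eq_card_quotient_mul_card_subgroup (rho.subgroupMap S).ker
    rw [Nat.card_congr (QuotientGroup.quotientKerEquivOfSurjective _ (rho.subgroupMap_surjective S)).toEquiv] at hq
    have hk : Nat.card ↥(rho.subgroupMap S).ker = 3 := by
      refine Eq.trans ?_ card_ker
      exact Nat.card_congr
        { toFun := fun x => ⟨x.1.1, MonoidHom.mem_ker.2 (congrArg Subtype.val (MonoidHom.mem_ker.1 x.2))⟩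
          invFun := fun x => ⟨⟨x.1, hker x.2⟩, MonoidHom.mem_ker.2 (Subtype.ext (MonoidHom.mem_ker.1 x.2))⟩
          left_inv := fun _ => rfl
          right_inv := fun _ => rfl }
    rw [hk, Nat.card_congr (Subgroup.subgroupOfEquivOfLe monoEven_le_triple).toEquiv, card_monoEven] at hq
    show Nat.card ↥(S.map rho) = 29160
    omega
  have hlt : H < rho.range := by
    refine lt_of_le_of_ne (Subgroup.map_le_range rho _) fun h => ?_
    obtain ⟨x, hx, e⟩ : rho ⟨rZero, gen_mem 3⟩ ∈ H := h ▸ ⟨_, rfl⟩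
    have hmem : (⟨rZero, gen_mem 3⟩ : ↥triple) * x⁻¹ ∈ monoEven.subgroupOf triple :=
      hker (MonoidHom.mem_ker.2 (by rw [map_mul, map_inv, e, mul_inv_cancel]))
    have := mul_mem hmem hx
    rw [inv_mul_cancel_right] at this
    exact rZero_not_monoTop (monoSub_mono le_top this)
  rw [← MonoidHom.range_eq_top]
  by_contra hne
  let K := GaloisField 3 2
  haveI : Fintype K := Fintype.ofFinite K
  have hK : Fintype.card K = 9 := by rw [Fintype.card_eq_nat_card, GaloisField.card 3 2 (by norm_num)]; rfl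
  obtain ⟨e⟩ := nonempty_equiv hK
  have hmin := (Cfsg.Agent.S2150.result 3 (by rw [hK]; norm_num) (by norm_num)).1 (rho.range.map e.toMonoidHom)
    fun h => hne (Subgroup.map_injective e.injective (by rw [h, Subgroup.map_top_of_surjective _ e.surjective]))
  rw [Subgroup.index_map_of_bijective (f := e.toMonoidHom) e.bijective] at hmin
  haveI : Finite Mdl := Nat.finite_of_card_ne_zero (by rw [mdl_spec.2]; norm_num)
  have h1 := H.card_mul_index
  rw [hcard, mdl_spec.2] at h1
  have h2 := Subgroup.relIndex_mul_index hlt.le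
  have h3 : H.relIndex rho.range ≠ 1 := fun h => hlt.not_ge (Subgroup.relIndex_eq_one.1 h)
  have h4 : H.relIndex rho.range ≠ 0 := fun h => by rw [h, zero_mul] at h2; omega
  have : 2 * rho.range.index ≤ H.index := by
    rw [← h2]; exact Nat.mul_le_mul_right _ (by omega)
  norm_num at hmin
  omega

theorem card_triple : Nat.card ↥triple = 9797760 := by
  have h := Subgroup.card_eq_card_quotient_mul_card_subgroup rho.ker
  rw [card_ker, Nat.card_congr (QuotientGroup.quotientKerEquivOfSurjective rho rho_surjective).toEquiv,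
    mdl_spec.2] at h
  omega

theorem center_triple : Subgroup.center ↥triple = rho.ker := by
  refine le_antisymm (fun z hz => ?_) fun z hz => ?_
  · haveI := mdl_spec.1
    have hc : rho z ∈ Subgroup.center Mdl := Subgroup.mem_center_iff.2 fun y => by
      obtain ⟨x, rfl⟩ := rho_surjective y
      rw [← map_mul, ← map_mul, Subgroup.mem_center_iff.1 hz x]
    rcases (Subgroup.center Mdl).normal_of_characteristic.eq_bot_or_eq_top with h | h
    · rw [h, Subgroup.mem_bot] at hc; exact MonoidHom.mem_ker.2 hc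
    · exfalso
      obtain ⟨a, ha⟩ : ∃ a : ↥triple, rho a ≠ 1 := ⟨⟨rZero, gen_mem 3⟩, fun h1 =>
        rZero_not_monoTop (diag_le _ (scalar_mem_diag (rho_eq_one_iff.1 h1)))⟩
      haveI : Finite Mdl := Nat.finite_of_card_ne_zero (by rw [mdl_spec.2]; norm_num)
      have hcomm : ∀ x y : Mdl, x * y = y * x := fun x y =>
        Subgroup.mem_center_iff.1 (h ▸ Subgroup.mem_top y) x
      letI : CommGroup Mdl := { (inferInstance : Group Mdl) with mul_comm := hcomm }
      have hp := Nat.Prime.ne_one (IsSimpleGroup.prime_card (α := Mdl))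
      have := (IsSimpleGroup.prime_card (α := Mdl))
      rw [mdl_spec.2] at this
      norm_num at this
  · obtain ⟨a, ha⟩ := rho_eq_one_iff.1 (MonoidHom.mem_ker.1 hz)
    refine Subgroup.mem_center_iff.2 fun x => Subtype.ext (mat_injective ?_)
    show mat x.1 * mat z.1 = mat z.1 * mat x.1
    rw [ha, mul_smul_comm, smul_mul_assoc, mul_one, one_mul]

end CfsgLib.Sporadic.U43Triple
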