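import Cfsg.Agent.Lib.Sporadic.U43Triple.Group

/-!
# The abelian subgroups of order 243 of the Sylow 3-subgroup, and normalisers of the diagonal
-/

set_option autoImplicit false
set_option maxRecDepth 100000

namespace CfsgLib.Sporadic.U43Triple

open Matrix Cfsg Equiv
open CfsgLib.Recog.SporBound.Fi22U6 (F4)

theorem perm_unique {g : G} {σ τ : Perm (Fin 6)} (hσ : ∀ i j, i ≠ σ j → mat g i j = 0)
    (hτ : ∀ i j, i ≠ τ j → mat g i j = 0) : σ = τ := by
  refine Equiv.ext fun j => ?_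
  by_contra h
  refine one_ne_zero ((mat_det g).symm.trans (Matrix.det_eq_zero_of_column_eq_zero j fun i => ?_))
  by_cases hi : i = σ j
  · exact hτ i j (hi ▸ h)
  · exact hσ i j hi

/-- The permutation of a monomial element. -/
noncomputable def permPart : ↥monoTop →* Perm (Fin 6) :=
  MonoidHom.mk' (fun g => g.2.choose) fun g h => by
    refine perm_unique (g * h).2.choose_spec.2 fun i j hij => ?_
    show mat (g.1 * h.1) i j = 0
    rw [mat_mul, Matrix.mul_apply]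
    refine Finset.sum_eq_zero fun k _ => ?_
    by_cases hk : k = h.2.choose j
    · subst hk; rw [g.2.choose_spec.2 i _ hij, zero_mul]
    · rw [h.2.choose_spec.2 k j hk, mul_zero]

theorem permPart_spec (g : ↥monoTop) : ∀ i j, i ≠ permPart g j → mat g.1 i j = 0 := g.2.choose_spec.2

theorem permPart_eq (g : ↥monoTop) {σ : Perm (Fin 6)} (h : ∀ i j, i ≠ σ j → mat g.1 i j = 0) : permPart g = σ :=
  perm_unique (permPart_spec g) h

theorem permPart_permHom (σ : Perm (Fin 6)) : permPart ⟨permHom σ, permHom_mem (Subgroup.mem_top σ)⟩ = σ :=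
  permPart_eq _ fun i j h => by rw [mat_permHom]; exact if_neg h

theorem mem_monoSub_iff {H : Subgroup (Perm (Fin 6))} {g : G} :
    g ∈ monoSub H ↔ ∃ h : g ∈ monoTop, permPart ⟨g, h⟩ ∈ H := by
  constructor
  · rintro ⟨σ, hσ, h⟩
    exact ⟨⟨σ, Subgroup.mem_top _, h⟩, by rw [permPart_eq _ h]; exact hσ⟩
  · rintro ⟨h, hσ⟩
    exact ⟨_, hσ, permPart_spec ⟨g, h⟩⟩

theorem mem_diagSub_iff {g : G} : g ∈ diagSub ↔ ∃ h : g ∈ monoTop, permPart ⟨g, h⟩ = 1 := by
  simp only [diagSub, mem_monoSub_iff, Subgroup.mem_bot]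

/-- A monomial group over a normal group of permutations is normal in the monomial group. -/
theorem conj_mem_monoSub {H : Subgroup (Perm (Fin 6))} [H.Normal] {g x : G} (hg : g ∈ monoTop)
    (hx : x ∈ monoSub H) : g * x * g⁻¹ ∈ monoSub H := by
  obtain ⟨hx', hσ⟩ := mem_monoSub_iff.1 hx
  refine mem_monoSub_iff.2 ⟨mul_mem (mul_mem hg hx') (inv_mem hg), ?_⟩
  have : permPart (⟨g, hg⟩ * ⟨x, hx'⟩ * ⟨g, hg⟩⁻¹) ∈ H := by
    rw [map_mul, map_mul, map_inv]
    exact Subgroup.Normal.conj_mem inferInstance _ hσ _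
  exact this

theorem conj_mem_diag {g x : G} (hg : g ∈ monoTop) (hx : x ∈ diagSub) : g * x * g⁻¹ ∈ diagSub :=
  conj_mem_monoSub hg hx

theorem conj_mem_even {g x : G} (hg : g ∈ monoTop) (hx : x ∈ monoEven) : g * x * g⁻¹ ∈ monoEven :=
  conj_mem_monoSub hg hx

theorem diag_split : ∀ j k : Fin 6, j ≠ k → ∃ d : Fin 6 → F4, DiagOK d ∧ d j ≠ d k := by
  intro j k hjk
  refine ⟨fun i => if i = j then F4.om else if i = k then F4.om' else 1, ?_⟩
  revert j k
  decide +kernel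

/-- An element normalising the diagonal is monomial. -/
theorem monoTop_of_normalizes {g : G} (h : ∀ e ∈ diagSub, g * e * g⁻¹ ∈ diagSub) : g ∈ monoTop := by
  refine monoTop_of_rows fun i j k hj hk => ?_
  by_contra hjk
  obtain ⟨d, hd, hne⟩ := diag_split j k hjk
  set e := dElt d hd with he
  set e' := g * e * g⁻¹ with he'
  have hm : mat e' * mat g = mat g * diagonal d := by
    rw [← mat_mul, ← mat_dElt d hd, ← mat_mul, he', ← he, inv_mul_cancel_right]
  have key : ∀ l, mat e' i i * mat g i l = mat g i l * d l := fun l => by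
    have h1 := congrFun (congrFun hm i) l
    rw [mat_diag (h e (dElt_mem d hd)), Matrix.diagonal_mul, Matrix.mul_diagonal] at h1
    exact h1
  have h1 : mat e' i i = d j := mul_right_cancel₀ hj ((key j).trans (mul_comm _ _))
  have h2 : mat e' i i = d k := mul_right_cancel₀ hk ((key k).trans (mul_comm _ _))
  exact hne (h1.symm.trans h2)

theorem eq_scale {b e : G} {σ : Perm (Fin 6)} (hb : ∀ i j, i ≠ σ j → mat b i j = 0) (he : e ∈ diagSub)
    (l : F4) (h : mat (b * e) = l • mat (e * b)) (x : Fin 6) : mat e x x = l * mat e (σ x) (σ x) := by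
  have h1 := congrFun (congrFun h (σ x)) x
  rw [mat_mul, mat_mul, mat_diag he, Matrix.smul_apply, Matrix.mul_diagonal, Matrix.diagonal_mul, smul_eq_mul] at h1
  have hne : mat b (σ x) x ≠ 0 := fun h0 => one_ne_zero ((mat_det b).symm.trans
    (Matrix.det_eq_zero_of_column_eq_zero x fun i => by
      by_cases hi : i = σ x
      · rw [hi]; exact h0
      · exact hb i x hi))
  exact mul_left_cancel₀ hne (by linear_combination h1)

theorem fixed_counts : (∀ a b : Fin 3, ¬(a = 0 ∧ b = 0) → (Finset.univ.filter fun d : Fin 6 → F4 =>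
      DiagOK d ∧ ∀ x, d ((cycA ^ a.1 * cycB ^ b.1) x) = d x).card ≤ 27) ∧
    (Finset.univ.filter fun d : Fin 6 → F4 => DiagOK d ∧ (∀ x, d (cycA x) = d x) ∧ ∀ x, d (cycB x) = d x).card ≤ 9 := by
  decide +kernel

/-- The diagonal is the only abelian subgroup of order 243 of the Sylow 3-subgroup. -/
theorem eq_diag_of_abelian {B : Subgroup G} (hle : B ≤ sylowThree) (hcard : Nat.card ↥B = 243)
    (hcomm : ∀ x ∈ B, ∀ y ∈ B, x * y = y * x) : B = diagSub := by
  have htop : B ≤ monoTop := hle.trans (monoSub_mono le_top)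
  let f : ↥B →* Perm (Fin 6) := permPart.comp (Subgroup.inclusion htop)
  have hf : ∀ b : ↥B, ∀ i j, i ≠ f b j → mat b.1 i j = 0 := fun b => permPart_spec ⟨b.1, htop b.2⟩
  have hrange : f.range ≤ nine := by
    rintro _ ⟨b, rfl⟩
    obtain ⟨h, hσ⟩ := mem_monoSub_iff.1 (hle b.2)
    exact hσ
  have hkd : ∀ x : ↥f.ker, x.1.1 ∈ diagSub := fun x =>
    mem_diagSub_iff.2 ⟨htop x.1.2, MonoidHom.mem_ker.1 x.2⟩
  have hinv : ∀ (x : ↥f.ker) (σ : Perm (Fin 6)), σ ∈ f.range → ∀ i, mat x.1.1 (σ i) (σ i) = mat x.1.1 i i := by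
    rintro x _ ⟨b, rfl⟩ i
    have h := eq_scale (hf b) (hkd x) 1 (by rw [one_smul, hcomm _ b.2 _ x.1.2]) i
    rw [one_mul] at h
    exact h.symm
  have hbound : ∀ P : (Fin 6 → F4) → Prop, ∀ [DecidablePred P], (∀ x : ↥f.ker, P fun i => mat x.1.1 i i) →
      Nat.card ↥f.ker ≤ (Finset.univ.filter P).card := by
    intro P _ hP
    rw [← Nat.card_eq_finsetCard]
    refine Nat.card_le_card_of_injective (fun x => ⟨fun i => mat x.1.1 i i, Finset.mem_filter.2 ⟨Finset.mem_univ _, hP x⟩⟩) ?_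
    intro x y h
    refine Subtype.ext (Subtype.ext (mat_injective ?_))
    rw [mat_diag (hkd x), mat_diag (hkd y)]
    exact congrArg diagonal (congrArg Subtype.val h)
  have htot : Nat.card ↥f.range * Nat.card ↥f.ker = 243 := by
    rw [← hcard, ← Nat.card_congr (QuotientGroup.quotientKerEquivRange f).toEquiv,
      ← Subgroup.card_eq_card_quotient_mul_card_subgroup]
  by_cases htriv : f.range = ⊥
  · refine Subgroup.eq_of_le_of_card_ge (fun b hb => ?_) (by rw [card_diagSub, hcard])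
    exact mem_diagSub_iff.2 ⟨htop hb, (Subgroup.mem_bot).1 (htriv ▸ ⟨⟨b, hb⟩, rfl⟩ : f ⟨b, hb⟩ ∈ (⊥ : Subgroup _))⟩
  · exfalso
    have hdvd : Nat.card ↥f.range ∣ 9 := card_nine ▸ Subgroup.card_dvd_of_le hrange
    obtain ⟨σ, hσ, hσ1⟩ := f.range.bot_or_exists_ne_one.resolve_left htriv
    obtain ⟨⟨a, b⟩, hab⟩ := hrange hσ
    replace hab : cycA ^ a.1 * cycB ^ b.1 = σ := hab
    have hab0 : ¬(a = 0 ∧ b = 0) := by
      rintro ⟨rfl, rfl⟩
      exact hσ1 (hab.symm.trans (by simp))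
    have h27 : Nat.card ↥f.ker ≤ 27 :=
      (hbound _ fun x => ⟨diagOK_of_mem (hkd x), fun i => hinv x _ (hab.symm ▸ hσ) i⟩).trans (fixed_counts.1 a b hab0)
    by_cases h9 : Nat.card ↥f.range = 9
    · have heq : f.range = nine := Subgroup.eq_of_le_of_card_ge hrange (by rw [card_nine, h9])
      have hA : cycA ∈ f.range := heq ▸ ⟨(1, 0), by simp⟩
      have hB : cycB ∈ f.range := heq ▸ ⟨(0, 1), by simp⟩
      have := (hbound _ fun x => ⟨diagOK_of_mem (hkd x), hinv x _ hA, hinv x _ hB⟩).trans fixed_counts.2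
      rw [h9] at htot
      omega
    · have h3 : Nat.card ↥f.range ≤ 3 := by
        have hp : Nat.card ↥f.range ∈ Nat.divisors 9 := Nat.mem_divisors.2 ⟨hdvd, by norm_num⟩
        rw [show Nat.divisors 9 = {1, 3, 9} by decide] at hp
        simp only [Finset.mem_insert, Finset.mem_singleton] at hp
        omega
      have := Nat.mul_le_mul h3 h27
      omega

/-- The group of order nine of two commuting permutations of order three. -/
def pairSub {σ τ : Perm (Fin 6)} (h : σ ^ 3 = 1 ∧ τ ^ 3 = 1 ∧ Commute σ τ) : Subgroup (Perm (Fin 6)) where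
  carrier := Set.range fun p : Fin 3 × Fin 3 => σ ^ p.1.1 * τ ^ p.2.1
  one_mem' := ⟨(0, 0), by simp⟩
  mul_mem' := by
    rintro _ _ ⟨⟨a, b⟩, rfl⟩ ⟨⟨c, d⟩, rfl⟩
    refine ⟨(a + c, b + d), ?_⟩
    simp only [Fin.val_add]
    rw [← pow_eq_pow_mod _ h.1, ← pow_eq_pow_mod _ h.2.1, pow_add, pow_add]
    rw [mul_assoc, ← mul_assoc (σ ^ c.1), ((h.2.2.pow_pow c.1 b.1)).eq]
    group
  inv_mem' := by
    rintro _ ⟨⟨a, b⟩, rfl⟩
    refine ⟨(-a, -b), (inv_eq_of_mul_eq_one_right ?_).symm⟩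
    show σ ^ a.1 * τ ^ b.1 * (σ ^ (-a).1 * τ ^ (-b).1) = 1
    rw [mul_assoc, ← mul_assoc (τ ^ b.1), ← (h.2.2.pow_pow (-a).1 b.1).eq, mul_assoc, ← pow_add, ← mul_assoc,
      ← pow_add, pow_eq_pow_mod _ h.1, pow_eq_pow_mod _ h.2.1, ← Fin.val_add, ← Fin.val_add,
      add_neg_cancel, add_neg_cancel]
    simp

theorem sylow_perm {H : Subgroup (Perm (Fin 6))} (hH : Nat.card ↥H = 9) :
    ∃ ν : Perm (Fin 6), ∀ ω ∈ nine, ν⁻¹ * ω * ν ∈ H := by
  haveI : Fact (Nat.Prime 3) := ⟨by norm_num⟩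
  have key : ∀ {H : Subgroup (Perm (Fin 6))}, Nat.card ↥H = 9 → IsPGroup 3 ↥H ∧ ¬ 3 ∣ H.index := by
    intro H hH
    refine ⟨IsPGroup.of_card (n := 2) (by rw [hH]; norm_num), ?_⟩
    have := H.card_mul_index
    rw [hH, Nat.card_perm, Nat.card_fin, show Nat.factorial 6 = 720 from rfl] at this
    omega
  let P : Sylow 3 (Perm (Fin 6)) := (key card_nine).1.toSylow (key card_nine).2
  let Q : Sylow 3 (Perm (Fin 6)) := (key hH).1.toSylow (key hH).2
  obtain ⟨ν, hν⟩ := MulAction.exists_smul_eq (Perm (Fin 6)) Q P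
  refine ⟨ν, fun ω hω => ?_⟩
  have h' : ω ∈ ((ν • Q : Sylow 3 (Perm (Fin 6))) : Subgroup (Perm (Fin 6))) := by rw [hν]; exact hω
  rw [Sylow.coe_subgroup_smul, Subgroup.mem_pointwise_smul_iff_inv_smul_mem] at h'
  show ν⁻¹ * ω * ν ∈ (Q : Subgroup (Perm (Fin 6)))
  simpa [MulAut.smul_def, MulAut.inv_def] using h'

theorem pattern : ∀ d : Fin 6 → F4, DiagOK d → (∃ l : F4, ∀ x, d x = l * d (cycA x)) →
    (∃ l : F4, ∀ x, d x = l * d (cycB x)) → d 1 = d 0 ∧ d 2 = d 0 ∧ d 4 = d 3 ∧ d 5 = d 3 := by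
  decide +kernel

end CfsgLib.Sporadic.U43Triple
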