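import Cfsg.Agent.Lib.Sporadic.U43Triple.Monomial
import Cfsg.Agent.Lib.Sporadic.U43Triple.Model

/-!
# Every triple cover of PSU(4, 3) in SU(6, 2) contains the monomial group up to conjugation
-/

set_option autoImplicit false
set_option maxRecDepth 100000
set_option maxHeartbeats 1000000

namespace CfsgLib.Sporadic.U43Triple

open Matrix Cfsg Equiv
open CfsgLib.Recog.SporBound.Fi22U6 (F4)
open CfsgLib.Known.U43Mult (Mdl mdl_spec)
open scoped commutatorElement

theorem card_comap {A B : Type*} [Group A] [Group B] (f : A →* B) (hf : Function.Surjective f) (H : Subgroup B) :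
    Nat.card ↥(H.comap f) = Nat.card ↥f.ker * Nat.card ↥H := by
  let r : ↥(H.comap f) →* ↥H := (f.comp (H.comap f).subtype).codRestrict H fun x => x.2
  have hr : Function.Surjective r := fun y => by
    obtain ⟨x, hx⟩ := hf y.1
    exact ⟨⟨x, by rw [Subgroup.mem_comap, hx]; exact y.2⟩, Subtype.ext hx⟩
  rw [Subgroup.card_eq_card_quotient_mul_card_subgroup r.ker,
    Nat.card_congr (QuotientGroup.quotientKerEquivOfSurjective r hr).toEquiv, mul_comm]
  congr 1
  exact Nat.card_congr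
    { toFun := fun x => ⟨x.1.1, MonoidHom.mem_ker.2 (congrArg Subtype.val (MonoidHom.mem_ker.1 x.2))⟩
      invFun := fun x => ⟨⟨x.1, by rw [Subgroup.mem_comap, MonoidHom.mem_ker.1 x.2]; exact H.one_mem⟩,
        MonoidHom.mem_ker.2 (Subtype.ext (MonoidHom.mem_ker.1 x.2))⟩
      left_inv := fun _ => rfl
      right_inv := fun _ => rfl }

theorem ker_le (H : Subgroup (Perm (Fin 6))) : rho.ker ≤ (monoSub H).subgroupOf triple := fun g hg =>
  Subgroup.mem_subgroupOf.2 (diag_le _ (scalar_mem_diag (rho_eq_one_iff.1 (MonoidHom.mem_ker.1 hg))))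

/-- The image of the diagonal. -/
noncomputable def imgDiag : Subgroup Mdl := (diagSub.subgroupOf triple).map rho
/-- The image of the even monomial group. -/
noncomputable def imgEven : Subgroup Mdl := (monoEven.subgroupOf triple).map rho

theorem comap_imgDiag : imgDiag.comap rho = diagSub.subgroupOf triple := Subgroup.comap_map_eq_self (ker_le _)

theorem comap_imgEven : imgEven.comap rho = monoEven.subgroupOf triple := Subgroup.comap_map_eq_self (ker_le _)

theorem diag_le_triple : diagSub ≤ triple := (diag_le _).trans monoEven_le_triple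

theorem card_imgDiag : Nat.card ↥imgDiag = 81 := by
  have h := card_comap rho rho_surjective imgDiag
  rw [comap_imgDiag, card_ker, Nat.card_congr (Subgroup.subgroupOfEquivOfLe diag_le_triple).toEquiv, card_diagSub] at h
  omega

theorem card_imgEven : Nat.card ↥imgEven = 29160 := by
  have h := card_comap rho rho_surjective imgEven
  rw [comap_imgEven, card_ker, Nat.card_congr (Subgroup.subgroupOfEquivOfLe monoEven_le_triple).toEquiv,
    card_monoEven] at h
  omega

/-- The data of a triple cover. -/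
structure Cover (K : Subgroup G) where
  /-- the projection -/
  proj : ↥K →* Mdl
  surj : Function.Surjective proj
  ker_eq : proj.ker = Subgroup.center ↥K
  card_center : Nat.card ↥(Subgroup.center ↥K) = 3

variable {K : Subgroup G} (c : Cover K)

theorem Cover.card_eq (c : Cover K) : Nat.card ↥K = 9797760 := by
  have h := card_comap c.proj c.surj ⊤
  rw [Subgroup.comap_top, Nat.card_congr Subgroup.topEquiv.toEquiv, Nat.card_congr Subgroup.topEquiv.toEquiv,
    c.ker_eq, c.card_center, mdl_spec.2] at h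
  exact h

theorem Cover.central (c : Cover K) {z : ↥K} (hz : c.proj z = 1) (x : ↥K) : x * z = z * x :=
  Subgroup.mem_center_iff.1 (c.ker_eq ▸ MonoidHom.mem_ker.2 hz) x

theorem Cover.cube (c : Cover K) {z : ↥K} (hz : c.proj z = 1) : z ^ 3 = 1 := by
  have hm : z ∈ Subgroup.center ↥K := c.ker_eq ▸ MonoidHom.mem_ker.2 hz
  have h : (⟨z, hm⟩ : ↥(Subgroup.center ↥K)) ^ Nat.card ↥(Subgroup.center ↥K) = 1 := pow_card_eq_one'
  rw [c.card_center] at h
  exact congrArg Subtype.val h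

theorem adj_patterns : ∀ i j : Fin 5, i ≠ j →
    (∃ σ : Perm (Fin 6), Equiv.Perm.sign σ = 1 ∧
      (∀ x, adjDiag i (σ x) * adjDiag i x = 1) ∧ ∀ x, adjDiag j (σ x) = adjDiag j x) ∨
    (∃ σ : Perm (Fin 6), Equiv.Perm.sign σ = 1 ∧
      (∀ x, adjDiag i (σ x) * adjDiag j x = 1) ∧ ∀ x, adjDiag j (σ x) * adjDiag i x = 1) ∨
    (∃ σ : Perm (Fin 6), Equiv.Perm.sign σ = 1 ∧
      (∀ x, adjDiag j (σ x) * adjDiag j x = 1) ∧ ∀ x, adjDiag i (σ x) = adjDiag i x) := by
  decide +kernel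

theorem conj_fix {k : Fin 5} {σ : Perm (Fin 6)} (h : ∀ x, adjDiag k (σ x) = adjDiag k x) :
    permHom σ * adjElt k * (permHom σ)⁻¹ = adjElt k := by
  refine mat_injective ?_
  ext i j
  obtain ⟨i, rfl⟩ := σ.surjective i
  obtain ⟨j, rfl⟩ := σ.surjective j
  rw [perm_conj, adjElt, mat_dElt]
  by_cases hij : i = j
  · subst hij; simp [h i]
  · rw [Matrix.diagonal_apply_ne _ hij, Matrix.diagonal_apply_ne _ (σ.injective.ne hij)]

theorem conj_neg {k l : Fin 5} {σ : Perm (Fin 6)} (h : ∀ x, adjDiag l (σ x) * adjDiag k x = 1) :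
    permHom σ * adjElt k * (permHom σ)⁻¹ = (adjElt l)⁻¹ := by
  refine mat_injective ?_
  ext i j
  obtain ⟨i, rfl⟩ := σ.surjective i
  obtain ⟨j, rfl⟩ := σ.surjective j
  rw [perm_conj, mat_inv, adjElt, adjElt, mat_dElt, mat_dElt]
  by_cases hij : i = j
  · subst hij
    have key : ∀ a b : F4, a * b = 1 → b = cj a := by decide
    simp [star', key _ _ (h i)]
  · simp [star', Matrix.diagonal_apply_ne _ hij, Matrix.diagonal_apply_ne _ (σ.injective.ne (Ne.symm hij)), cj_zero]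

theorem comm_shift {A : Type*} [Group A] {u z : A} (b : A) (hz : ∀ x, x * z = z * x) : ⁅u * z, b⁆ = ⁅u, b⁆ ∧ ⁅b, u * z⁆ = ⁅b, u⁆ := by
  have e1 : u * z * b * (u * z)⁻¹ = u * b * u⁻¹ := by
    rw [_root_.mul_inv_rev, show u * z * b * (z⁻¹ * u⁻¹) = u * (z * b * z⁻¹) * u⁻¹ by group, ← hz b, mul_inv_cancel_right]
  constructor
  · show u * z * b * (u * z)⁻¹ * b⁻¹ = u * b * u⁻¹ * b⁻¹
    rw [e1]
  · show b * (u * z) * b⁻¹ * (u * z)⁻¹ = b * u * b⁻¹ * u⁻¹
    rw [_root_.mul_inv_rev, show b * (u * z) * b⁻¹ * (z⁻¹ * u⁻¹) = b * u * (z * b⁻¹ * z⁻¹) * u⁻¹ by group, ← hz b⁻¹,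
      mul_inv_cancel_right]

theorem comm_inv {A : Type*} [Group A] {a b : A} (hc : ∀ x, x * ⁅a, b⁆ = ⁅a, b⁆ * x) :
    ⁅a⁻¹, b⁆ = ⁅a, b⁆⁻¹ ∧ ⁅b⁻¹, a⁻¹⁆ = ⁅a, b⁆⁻¹ := by
  have hc' : ∀ x, x * ⁅a, b⁆⁻¹ = ⁅a, b⁆⁻¹ * x := fun x => Commute.inv_right (hc x)
  constructor
  · have h : ⁅a⁻¹, b⁆ = a⁻¹ * ⁅a, b⁆⁻¹ * a := by simp only [commutatorElement_def]; group
    rw [h, hc', inv_mul_cancel_right]
  · have h : ⁅b⁻¹, a⁻¹⁆ = (b⁻¹ * a⁻¹) * ⁅a, b⁆⁻¹ * (b⁻¹ * a⁻¹)⁻¹ := by simp only [commutatorElement_def]; group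
    rw [h, hc', mul_inv_cancel_right]

theorem commute_of_patterns {A : Type*} [Group A] {a b s : A} (hc : ∀ x, x * ⁅a, b⁆ = ⁅a, b⁆ * x)
    (h3 : ⁅a, b⁆ ^ 3 = 1) {z z' : A} (hz : ∀ x, x * z = z * x) (hz' : ∀ x, x * z' = z' * x)
    (h : (s * a * s⁻¹ = a⁻¹ * z ∧ s * b * s⁻¹ = b * z') ∨ (s * a * s⁻¹ = b⁻¹ * z ∧ s * b * s⁻¹ = a⁻¹ * z')) :
    a * b = b * a := by
  have hs : s * ⁅a, b⁆ * s⁻¹ = ⁅a, b⁆ := by rw [hc s, mul_inv_cancel_right]
  have hs' : ⁅s * a * s⁻¹, s * b * s⁻¹⁆ = ⁅a, b⁆ := by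
    refine Eq.trans ?_ hs
    simp only [commutatorElement_def]; group
  have key : ⁅a, b⁆⁻¹ = ⁅a, b⁆ := by
    rcases h with ⟨e1, e2⟩ | ⟨e1, e2⟩
    · rw [e1, e2, (comm_shift _ hz).1, (comm_shift _ hz').2, (comm_inv hc).1] at hs'
      exact hs'
    · rw [e1, e2, (comm_shift _ hz).1, (comm_shift _ hz').2, (comm_inv hc).2] at hs'
      exact hs'
  have h2 : ⁅a, b⁆ * ⁅a, b⁆ = 1 := by nth_rw 1 [← key]; exact inv_mul_cancel _
  exact commutatorElement_eq_one_iff_mul_comm.1 (by rw [pow_succ, pow_two, h2, one_mul] at h3; exact h3)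

/-- A lift of the diagonal. -/
noncomputable def Cover.diagLift : Subgroup G := (imgDiag.comap c.proj).map K.subtype

theorem Cover.card_diagLift (c : Cover K) : Nat.card ↥c.diagLift = 243 := by
  rw [Cover.diagLift, Subgroup.card_subtype, card_comap c.proj c.surj, c.ker_eq, c.card_center, card_imgDiag]

theorem Cover.diagLift_comm (c : Cover K) : ∀ x ∈ c.diagLift, ∀ y ∈ c.diagLift, x * y = y * x := by
  choose a ha using fun k : Fin 5 => c.surj (rho ⟨adjElt k, adjElt_mem k⟩)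
  have habel : ∀ i j, adjElt i * adjElt j = adjElt j * adjElt i := fun i j => mat_injective (by
    rw [mat_mul, mat_mul, adjElt, adjElt, mat_dElt, mat_dElt, Matrix.diagonal_mul_diagonal,
      Matrix.diagonal_mul_diagonal]
    simp [mul_comm])
  have hcen : ∀ i j, c.proj ⁅a i, a j⁆ = 1 := fun i j => by
    have e : ⁅(⟨adjElt i, adjElt_mem i⟩ : ↥triple), (⟨adjElt j, adjElt_mem j⟩ : ↥triple)⁆ = (1 : ↥triple) :=
      commutatorElement_eq_one_iff_mul_comm.2 (Subtype.ext (habel i j))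
    rw [map_commutatorElement, ha, ha, ← map_commutatorElement, e, map_one]
  have hlift : ∀ (σ : Perm (Fin 6)) (hσ : Equiv.Perm.sign σ = 1), ∃ s : ↥K, ∀ k l : Fin 5,
      ((∀ x, adjDiag k (σ x) = adjDiag k x) → ∃ z, c.proj z = 1 ∧ s * a k * s⁻¹ = a k * z) ∧
      ((∀ x, adjDiag l (σ x) * adjDiag k x = 1) → ∃ z, c.proj z = 1 ∧ s * a k * s⁻¹ = (a l)⁻¹ * z) := by
    intro σ hσ
    have hp : permHom σ ∈ triple := permHom_even (Equiv.Perm.mem_alternatingGroup.2 hσ)
    obtain ⟨s, hs⟩ := c.surj (rho ⟨_, hp⟩)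
    refine ⟨s, fun k l => ⟨fun h => ⟨(a k)⁻¹ * (s * a k * s⁻¹), ?_, by group⟩,
      fun h => ⟨a l * (s * a k * s⁻¹), ?_, by group⟩⟩⟩
    · have e : (⟨_, hp⟩ : ↥triple) * ⟨adjElt k, adjElt_mem k⟩ * ⟨_, hp⟩⁻¹ = ⟨adjElt k, adjElt_mem k⟩ :=
        Subtype.ext (conj_fix h)
      simp only [map_mul, map_inv, hs, ha]
      rw [← map_inv rho ⟨_, hp⟩, ← map_mul, ← map_mul, e, inv_mul_cancel]
    · have e : (⟨_, hp⟩ : ↥triple) * ⟨adjElt k, adjElt_mem k⟩ * ⟨_, hp⟩⁻¹ = ⟨adjElt l, adjElt_mem l⟩⁻¹ :=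
        Subtype.ext (conj_neg h)
      simp only [map_mul, map_inv, hs, ha]
      rw [← map_inv rho ⟨_, hp⟩, ← map_mul, ← map_mul, e, map_inv, mul_inv_cancel]
  have hcomm : ∀ i j, a i * a j = a j * a i := by
    intro i j
    by_cases hij : i = j
    · rw [hij]
    rcases adj_patterns i j hij with ⟨σ, hσ, h1, h2⟩ | ⟨σ, hσ, h1, h2⟩ | ⟨σ, hσ, h1, h2⟩
    · obtain ⟨s, hs⟩ := hlift σ hσ
      obtain ⟨z, hz, e1⟩ := (hs i i).2 h1
      obtain ⟨z', hz', e2⟩ := (hs j j).1 h2
      exact commute_of_patterns (c.central (hcen i j)) (c.cube (hcen i j)) (c.central hz) (c.central hz') (Or.inl ⟨e1, e2⟩)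
    · obtain ⟨s, hs⟩ := hlift σ hσ
      obtain ⟨z, hz, e1⟩ := (hs i j).2 h2
      obtain ⟨z', hz', e2⟩ := (hs j i).2 h1
      exact commute_of_patterns (c.central (hcen i j)) (c.cube (hcen i j)) (c.central hz) (c.central hz') (Or.inr ⟨e1, e2⟩)
    · obtain ⟨s, hs⟩ := hlift σ hσ
      obtain ⟨z, hz, e1⟩ := (hs j j).2 h1
      obtain ⟨z', hz', e2⟩ := (hs i i).1 h2
      exact (commute_of_patterns (c.central (hcen j i)) (c.cube (hcen j i)) (c.central hz) (c.central hz')
        (Or.inl ⟨e1, e2⟩)).symm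
  let S : Set ↥K := Set.range a ∪ {z | c.proj z = 1}
  have hS : ∀ x ∈ Subgroup.closure S, ∀ y ∈ Subgroup.closure S, x * y = y * x := by
    have h1 : Subgroup.closure S ≤ Subgroup.centralizer S := by
      rw [Subgroup.closure_le]
      intro x hx
      rw [SetLike.mem_coe, Subgroup.mem_centralizer_iff]
      intro y hy
      rcases hx with ⟨i, rfl⟩ | hx
      · rcases hy with ⟨j, rfl⟩ | hy
        · exact hcomm j i
        · exact (c.central hy _).symm
      · exact c.central hx _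
    have h2 : S ⊆ Subgroup.centralizer (Subgroup.closure S : Set ↥K) := fun x hx => by
      rw [SetLike.mem_coe, Subgroup.mem_centralizer_iff]
      exact fun y hy => (Subgroup.mem_centralizer_iff.1 (h1 hy) x hx).symm
    intro x hx y hy
    exact (Subgroup.mem_centralizer_iff.1 ((Subgroup.closure_le _).2 h2 hy) x hx)
  have hmem : ∀ x ∈ imgDiag.comap c.proj, x ∈ Subgroup.closure S := by
    intro x hx
    obtain ⟨d, hd, hdx⟩ := hx
    obtain ⟨n, hn⟩ := diag_eq_prod hd
    set w := a 0 ^ (n 0).1 * a 1 ^ (n 1).1 * a 2 ^ (n 2).1 * a 3 ^ (n 3).1 * a 4 ^ (n 4).1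
    have hw : c.proj w = rho d := by
      simp only [w, map_mul, map_pow, ha]
      rw [← map_pow rho, ← map_pow rho, ← map_pow rho, ← map_pow rho, ← map_pow rho, ← map_mul rho, ← map_mul rho,
        ← map_mul rho, ← map_mul rho]
      exact congrArg rho (Subtype.ext hn.symm)
    have hwS : w ∈ Subgroup.closure S := by
      have : ∀ k, a k ∈ Subgroup.closure S := fun k => Subgroup.subset_closure (Or.inl ⟨k, rfl⟩)
      exact mul_mem (mul_mem (mul_mem (mul_mem (pow_mem (this 0) _) (pow_mem (this 1) _)) (pow_mem (this 2) _))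
        (pow_mem (this 3) _)) (pow_mem (this 4) _)
    have hz : c.proj (w⁻¹ * x) = 1 := by rw [map_mul, map_inv, hw, hdx, inv_mul_cancel]
    have := mul_mem hwS (Subgroup.subset_closure (Or.inr hz : w⁻¹ * x ∈ S))
    rwa [mul_inv_cancel_left] at this
  rintro _ ⟨x, hx, rfl⟩ _ ⟨y, hy, rfl⟩
  exact congrArg Subtype.val (hS x (hmem x hx) y (hmem y hy))

theorem center_map {A B : Type*} [Group A] [Group B] (e : A ≃* B) :
    (Subgroup.center A).map e.toMonoidHom = Subgroup.center B := by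
  ext y
  rw [Subgroup.mem_map, Subgroup.mem_center_iff]
  constructor
  · rintro ⟨x, hx, rfl⟩ z
    obtain ⟨z, rfl⟩ := e.surjective z
    show e z * e x = e x * e z
    rw [← map_mul, ← map_mul, Subgroup.mem_center_iff.1 hx z]
  · intro h
    refine ⟨e.symm y, Subgroup.mem_center_iff.2 fun z => e.injective ?_, e.apply_symm_apply y⟩
    rw [map_mul, map_mul, e.apply_symm_apply, h]

/-- The conjugate of a cover. -/
noncomputable def Cover.conj (c : Cover K) (g : G) : Cover (K.map (MulAut.conj g).toMonoidHom) :=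
  let e : ↥K ≃* ↥(K.map (MulAut.conj g).toMonoidHom) :=
    K.equivMapOfInjective (MulAut.conj g).toMonoidHom (MulAut.conj g).injective
  { proj := c.proj.comp e.symm.toMonoidHom
    surj := c.surj.comp e.symm.surjective
    ker_eq := by
      rw [← center_map e, ← c.ker_eq]
      ext x
      constructor
      · exact fun hx => ⟨e.symm x, hx, e.apply_symm_apply x⟩
      · rintro ⟨y, hy, rfl⟩
        show c.proj (e.symm (e y)) = 1
        rw [e.symm_apply_apply]
        exact hy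
    card_center := by
      rw [← center_map e, Nat.card_congr ((Subgroup.center ↥K).equivMapOfInjective _ e.injective).toEquiv.symm]
      exact c.card_center }

theorem Cover.conj_proj (c : Cover K) (g : G) (x : ↥K) :
    (c.conj g).proj ⟨g * x.1 * g⁻¹, x.1, x.2, rfl⟩ = c.proj x := by
  show c.proj _ = c.proj x
  refine congrArg c.proj ?_
  exact (K.equivMapOfInjective (MulAut.conj g).toMonoidHom (MulAut.conj g).injective).symm_apply_apply x

theorem isThree : ∀ (x : G), x ∈ diagSub → x ^ 3 = 1 := by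
  intro x hx
  refine mat_injective ?_
  have key : ∀ a : F4, cj a * a = 1 → a * a * a = 1 := by decide
  rw [pow_succ, pow_two, mat_mul, mat_mul, mat_one, mat_diag hx, Matrix.diagonal_mul_diagonal,
    Matrix.diagonal_mul_diagonal, ← Matrix.diagonal_one]
  exact congrArg diagonal (funext fun i => key _ ((diagOK_of_mem hx).1 i))

theorem sylow_normal_form {B : Subgroup G} (hcard : Nat.card ↥B = 243) (hcomm : ∀ x ∈ B, ∀ y ∈ B, x * y = y * x) :
    ∃ g : G, B.map (MulAut.conj g).toMonoidHom = diagSub := by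
  haveI : Fact (Nat.Prime 3) := ⟨by norm_num⟩
  have hp : IsPGroup 3 ↥sylowThree := IsPGroup.of_card (n := 7) (by rw [card_sylowThree]; norm_num)
  have hidx : ¬ 3 ∣ sylowThree.index := by
    have := sylowThree.card_mul_index
    rw [card_sylowThree, card_G] at this
    omega
  let P : Sylow 3 G := hp.toSylow hidx
  obtain ⟨Q, hQ⟩ := (IsPGroup.of_card (n := 5) (show Nat.card ↥B = 3 ^ 5 by rw [hcard]; norm_num)).exists_le_sylow
  obtain ⟨g, hg⟩ := MulAction.exists_smul_eq G Q P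
  refine ⟨g, eq_diag_of_abelian ?_ ?_ ?_⟩
  · have : (g • Q : Sylow 3 G).toSubgroup = sylowThree := by rw [hg]; rfl
    rw [← this, Sylow.coe_subgroup_smul, Subgroup.pointwise_smul_def]
    exact Subgroup.map_mono hQ
  · rw [← hcard]
    exact (Nat.card_congr (B.equivMapOfInjective _ (MulAut.conj g).injective).toEquiv).symm
  · rintro _ ⟨x, hx, rfl⟩ _ ⟨y, hy, rfl⟩
    rw [← map_mul, ← map_mul, hcomm x hx y hy]

theorem Cover.diagLift_conj (c : Cover K) (g : G) :
    (c.conj g).diagLift = c.diagLift.map (MulAut.conj g).toMonoidHom := by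
  ext y
  constructor
  · rintro ⟨⟨z, x, hx, rfl⟩, hz, rfl⟩
    exact ⟨x, ⟨⟨x, hx⟩, by
      have := c.conj_proj g ⟨x, hx⟩
      show c.proj ⟨x, hx⟩ ∈ imgDiag
      rw [← this]; exact hz, rfl⟩, rfl⟩
  · rintro ⟨x, ⟨x', hx', rfl⟩, rfl⟩
    exact ⟨⟨g * x'.1 * g⁻¹, x'.1, x'.2, rfl⟩, by
      show (c.conj g).proj _ ∈ imgDiag
      rw [c.conj_proj]; exact hx', rfl⟩

section Normalised

variable (hd : c.diagLift = diagSub)
include hd

theorem Cover.mem_of_diag {x : G} (hx : x ∈ diagSub) : ∃ h : x ∈ K, c.proj ⟨x, h⟩ ∈ imgDiag := by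
  rw [← hd] at hx
  obtain ⟨x', hx', rfl⟩ := hx
  exact ⟨x'.2, hx'⟩

theorem Cover.diag_of_proj {x : ↥K} (hx : c.proj x ∈ imgDiag) : x.1 ∈ diagSub := hd ▸ ⟨x, hx, rfl⟩

theorem Cover.lift_normalizes {x : ↥K} (hx : c.proj x ∈ imgEven) : x.1 ∈ monoTop := by
  obtain ⟨m, hm, hmx⟩ := hx
  refine monoTop_of_normalizes fun e he => ?_
  obtain ⟨heK, hpe⟩ := c.mem_of_diag hd he
  obtain ⟨d, hdd, hde⟩ := hpe
  have hm' : m.1 ∈ monoTop := monoSub_mono le_top (Subgroup.mem_subgroupOf.1 hm)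
  have hd' : m * d * m⁻¹ ∈ diagSub.subgroupOf triple :=
    Subgroup.mem_subgroupOf.2 (conj_mem_diag hm' (Subgroup.mem_subgroupOf.1 hdd))
  have hp : c.proj (x * ⟨e, heK⟩ * x⁻¹) ∈ imgDiag := by
    refine ⟨m * d * m⁻¹, hd', ?_⟩
    rw [map_mul, map_mul, map_inv, map_mul, map_mul, map_inv, hmx, hde]
  exact c.diag_of_proj hd hp

theorem Cover.even_lift : (imgEven.comap c.proj).map K.subtype = monoEven := by
  set B := (imgEven.comap c.proj).map K.subtype with hB
  have hcard : Nat.card ↥B = 87480 := by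
    rw [hB, Subgroup.card_subtype, card_comap c.proj c.surj, c.ker_eq, c.card_center, card_imgEven]
  have hle : B ≤ monoTop := by
    rintro _ ⟨x, hx, rfl⟩
    exact c.lift_normalizes hd hx
  have hidx : (B.subgroupOf monoTop).index = 2 := by
    have h := Subgroup.card_mul_index (B.subgroupOf monoTop)
    rw [Nat.card_congr (Subgroup.subgroupOfEquivOfLe hle).toEquiv, hcard, card_monoTop] at h
    omega
  have hcube : ∀ x ∈ monoTop, x ^ 3 = 1 → x ∈ B := fun x hx h3 => by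
    have h2 : (⟨x, hx⟩ : ↥monoTop) ^ 2 ∈ B.subgroupOf monoTop := by
      rw [pow_two, Subgroup.mul_mem_iff_of_index_two hidx]
    have h4 := Subgroup.mem_subgroupOf.1 (pow_mem h2 2)
    have e : (x ^ 2) ^ 2 = x := by rw [← pow_mul, pow_succ, h3, one_mul]
    simpa [e] using h4
  refine (Subgroup.eq_of_le_of_card_ge ?_ (by rw [hcard, card_monoEven])).symm
  intro g hg
  obtain ⟨e, he, σ, hσ, rfl⟩ := exists_decomp hg
  refine mul_mem (hcube e (diag_le _ he) (isThree e he)) ?_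
  suffices hle' : alternatingGroup (Fin 6) ≤ B.comap permHom from hle' hσ
  rw [← Equiv.Perm.closure_three_cycles_eq_alternating, Subgroup.closure_le]
  intro τ hτ
  refine hcube _ (permHom_mem (Subgroup.mem_top τ)) ?_
  rw [← map_pow, ← hτ.orderOf, pow_orderOf_eq_one, map_one]

theorem Cover.even_le : monoEven ≤ K := by
  rw [← c.even_lift hd]
  exact Subgroup.map_subtype_le _

theorem Cover.scalar_of_proj_one {z : ↥K} (hz : c.proj z = 1) : IsScalar z.1 := by
  have hzd : z.1 ∈ diagSub := c.diag_of_proj hd (by rw [hz]; exact Subgroup.one_mem _)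
  refine ⟨mat z.1 0 0, ?_⟩
  have hinv : ∀ σ : Perm (Fin 6), σ ∈ alternatingGroup (Fin 6) → mat z.1 0 0 = mat z.1 (σ 0) (σ 0) := by
    intro σ hσ
    have hp : permHom σ ∈ K := c.even_le hd (permHom_mem hσ)
    have h := eq_scale (b := permHom σ) (σ := σ) (fun i j h => by rw [mat_permHom]; exact if_neg h) hzd 1
      (by rw [one_smul]; exact congrArg mat (congrArg Subtype.val (c.central hz ⟨_, hp⟩))) 0
    rwa [one_mul] at h
  have hreach : ∀ i : Fin 6, ∃ σ : Perm (Fin 6), Equiv.Perm.sign σ = 1 ∧ σ 0 = i := by decide +kernel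
  rw [mat_diag hzd, Matrix.smul_one_eq_diagonal]
  refine congrArg diagonal (funext fun i => ?_)
  obtain ⟨σ, hs, hi⟩ := hreach i
  show mat z.1 i i = mat z.1 0 0
  rw [hinv σ (Equiv.Perm.mem_alternatingGroup.2 hs), hi]

omit hd in
theorem scalar_proj (c : Cover K) {x : ↥K} (h : IsScalar x.1) : c.proj x = 1 := by
  refine MonoidHom.mem_ker.1 (c.ker_eq.symm ▸ ?_)
  refine Subgroup.mem_center_iff.2 fun y => Subtype.ext (mat_injective ?_)
  obtain ⟨a, ha⟩ := h
  show mat y.1 * mat x.1 = mat x.1 * mat y.1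
  rw [ha, mul_smul_comm, smul_mul_assoc, mul_one, one_mul]

end Normalised

end CfsgLib.Sporadic.U43Triple
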