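import Cfsg.Agent.Lib.Sporadic.U43Triple.Normal

/-!
# A further element in the centraliser of a diagonal element
-/

set_option autoImplicit false
set_option maxRecDepth 100000
set_option maxHeartbeats 1000000

namespace CfsgLib.Sporadic.U43Triple

open Matrix Cfsg Equiv
open CfsgLib.Recog.SporBound.Fi22U6 (F4)
open CfsgLib.Known.U43Mult (Mdl)

theorem halfDiag_ok : DiagOK ![F4.om, F4.om, F4.om, 1, 1, 1] ∧ DiagOK ![1, F4.om', F4.om, 1, F4.om, F4.om'] := by
  decide +kernel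

/-- The element of order three with two eigenspaces of dimension three. -/
def halfDiag : G := dElt _ halfDiag_ok.1
/-- An element of its centraliser outside the monomial group. -/
def witness : G := rZero * dElt _ halfDiag_ok.2

theorem witness_comm : mat witness * mat halfDiag = mat halfDiag * mat witness := by decide +kernel

theorem witness_four : (mat witness * mat witness) * (mat witness * mat witness) = 1 := by decide +kernel

/-- An entry of a matrix. -/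
def ent (A : Mat) (i j : Fin 6) : F4 := A i j

theorem witness_rows : ∃ i j k : Fin 6, j ≠ k ∧ ¬ ent (mat witness) i j = 0 ∧ ¬ ent (mat witness) i k = 0 := by
  decide +kernel

theorem cyc_comm : pmat cycA * mat halfDiag = mat halfDiag * pmat cycA ∧
    pmat cycB * mat halfDiag = mat halfDiag * pmat cycB := by decide +kernel

theorem halfDiag_ne : mat halfDiag 0 0 ≠ mat halfDiag 3 3 := by decide +kernel

theorem witness_mem : witness ∈ triple :=
  mul_mem (gen_mem 3) (diag_le_triple (dElt_mem _ _))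

theorem witness_not_mono : witness ∉ monoTop := by
  intro h
  obtain ⟨σ, -, hσ⟩ := h
  obtain ⟨i, j, k, hjk, hj, hk⟩ := witness_rows
  refine hjk (σ.injective ?_)
  have h1 : i = σ j := by by_contra hne; exact hj (hσ i j hne)
  have h2 : i = σ k := by by_contra hne; exact hk (hσ i k hne)
  exact h1.symm.trans h2

/-- A row of a product with the conjugate transpose of a block has one non-zero entry. -/
def OneEach (c₀ c₁ c₂ : Fin 3 → F4) (u : Fin 4) : Prop :=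
  ∀ r : Fin 3,
    let e := fun (c : Fin 3 → F4) => ∑ k : Fin 3, cj (F4.ofNat4 (((uRows.getD u.1 []).getD k.1 []).getD r.1 0)) * c k
    (e c₀ = 0 ∨ e c₁ = 0) ∧ (e c₀ = 0 ∨ e c₂ = 0) ∧ (e c₁ = 0 ∨ e c₂ = 0)

instance (c₀ c₁ c₂ : Fin 3 → F4) : DecidablePred (OneEach c₀ c₁ c₂) :=
  fun _ => inferInstanceAs (Decidable (∀ _, _))

theorem frame_check : ∀ c₀ : Fin 3 → F4, ∑ k, c₀ k * cj (c₀ k) = 1 → ∀ c₁ : Fin 3 → F4, ∑ k, c₁ k * cj (c₁ k) = 1 →
    ∑ k, c₀ k * cj (c₁ k) = 0 → ∀ c₂ : Fin 3 → F4, ∑ k, c₂ k * cj (c₂ k) = 1 →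
    ∑ k, c₀ k * cj (c₂ k) = 0 → ∑ k, c₁ k * cj (c₂ k) = 0 → ∃ u, OneEach c₀ c₁ c₂ u := by
  decide +kernel

/-- A coordinate of the first block. -/
def cA (i : Fin 3) : Fin 6 := ⟨i.1, by omega⟩
/-- A coordinate of the second block. -/
def cB (i : Fin 3) : Fin 6 := ⟨i.1 + 3, by omega⟩

theorem cA_inj {i j : Fin 3} : cA i = cA j ↔ i = j := by simp [cA, Fin.ext_iff]

theorem cB_inj {i j : Fin 3} : cB i = cB j ↔ i = j := by simp [cB, Fin.ext_iff]

theorem halves : ∀ i : Fin 6, ∃ r, i = cA r ∨ i = cB r := by decide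

theorem blk_entry : ∀ (u v : Fin 4) (i j : Fin 3),
    (blk u 0 * blk 0 v) (cA i) (cA j) = F4.ofNat4 (((uRows.getD u.1 []).getD i.1 []).getD j.1 0) ∧
    (blk u 0 * blk 0 v) (cB i) (cB j) = F4.ofNat4 (((uRows.getD v.1 []).getD i.1 []).getD j.1 0) ∧
    (blk u 0 * blk 0 v) (cA i) (cB j) = 0 ∧
    (blk u 0 * blk 0 v) (cB i) (cA j) = 0 := by
  decide +kernel

theorem sum_halves {M : Type*} [AddCommMonoid M] (f : Fin 6 → M) :
    ∑ k, f k = ∑ k : Fin 3, f (cA k) + ∑ k : Fin 3, f (cB k) := by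
  rw [Fin.sum_univ_six, Fin.sum_univ_three, Fin.sum_univ_three]
  simp only [add_assoc]
  rfl

/-- An element preserving the two blocks is a representative times a monomial element. -/
theorem exists_frames {g : G} (hu : ∀ i j : Fin 3, mat g (cA i) (cB j) = 0)
    (hl : ∀ i j : Fin 3, mat g (cB i) (cA j) = 0) :
    ∃ u v : Fin 4, (blockA u * blockB v)⁻¹ * g ∈ monoTop := by
  have hcol : ∀ j l : Fin 6, ∑ k, mat g k j * cj (mat g k l) = if l = j then 1 else 0 := fun j l => by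
    rw [← Matrix.one_apply, ← star_mul_self g, Matrix.mul_apply]
    exact Finset.sum_congr rfl fun k _ => mul_comm _ _
  have first : ∃ u : Fin 4, OneEach (fun k => mat g (cA k) (cA 0))
      (fun k => mat g (cA k) (cA 1)) (fun k => mat g (cA k) (cA 2)) u := by
    have h : ∀ j l : Fin 3, ∑ k : Fin 3, mat g (cA k) (cA j) *
        cj (mat g (cA k) (cA l)) = if l = j then 1 else 0 := fun j l => by
      have := hcol (cA j) (cA l)
      rw [sum_halves] at this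
      simpa [hl, cA_inj] using this
    exact frame_check _ (h 0 0) _ (h 1 1) (h 0 1) _ (h 2 2) (h 0 2) (h 1 2)
  have second : ∃ v : Fin 4, OneEach (fun k => mat g (cB k) (cB 0))
      (fun k => mat g (cB k) (cB 1)) (fun k => mat g (cB k) (cB 2)) v := by
    have h : ∀ j l : Fin 3, ∑ k : Fin 3, mat g (cB k) (cB j) *
        cj (mat g (cB k) (cB l)) = if l = j then 1 else 0 := fun j l => by
      have := hcol (cB j) (cB l)
      rw [sum_halves] at this
      simpa [hu, cB_inj] using this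
    exact frame_check _ (h 0 0) _ (h 1 1) (h 0 1) _ (h 2 2) (h 0 2) (h 1 2)
  obtain ⟨u, hU⟩ := first
  obtain ⟨v, hV⟩ := second
  refine ⟨u, v, monoTop_of_rows fun i j k hj hk => ?_⟩
  have hm : mat ((blockA u * blockB v)⁻¹ * g) = star' (blk u 0 * blk 0 v) * mat g := by
    rw [mat_mul, mat_inv, mat_mul]; rfl
  rw [hm] at hj hk
  have e₁ : ∀ r j : Fin 3, (star' (blk u 0 * blk 0 v) * mat g) (cA r) (cA j) =
      ∑ l : Fin 3, cj (F4.ofNat4 (((uRows.getD u.1 []).getD l.1 []).getD r.1 0)) *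
        mat g (cA l) (cA j) ∧
      (star' (blk u 0 * blk 0 v) * mat g) (cB r) (cB j) =
      ∑ l : Fin 3, cj (F4.ofNat4 (((uRows.getD v.1 []).getD l.1 []).getD r.1 0)) *
        mat g (cB l) (cB j) ∧
      (star' (blk u 0 * blk 0 v) * mat g) (cA r) (cB j) = 0 ∧
      (star' (blk u 0 * blk 0 v) * mat g) (cB r) (cA j) = 0 := fun r j => by
    simp only [Matrix.mul_apply, sum_halves]
    simp only [star', Matrix.of_apply, (blk_entry u v _ _).1, (blk_entry u v _ _).2.1,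
      (blk_entry u v _ _).2.2.1, (blk_entry u v _ _).2.2.2, hu, hl, cj_zero, zero_mul, mul_zero,
      Finset.sum_const_zero, add_zero, zero_add, and_self]
  have three : ∀ e : Fin 3 → F4, (e 0 = 0 ∨ e 1 = 0) ∧ (e 0 = 0 ∨ e 2 = 0) ∧ (e 1 = 0 ∨ e 2 = 0) →
      ∀ j k : Fin 3, e j ≠ 0 → e k ≠ 0 → j = k := by decide +kernel
  have one : ∀ (c : Fin 3 → Fin 3 → F4) (w : Fin 4), OneEach (fun k => c k 0) (fun k => c k 1) (fun k => c k 2) w →
      ∀ r j k : Fin 3, (∑ l : Fin 3, cj (F4.ofNat4 (((uRows.getD w.1 []).getD l.1 []).getD r.1 0)) * c l j) ≠ 0 →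
        (∑ l : Fin 3, cj (F4.ofNat4 (((uRows.getD w.1 []).getD l.1 []).getD r.1 0)) * c l k) ≠ 0 → j = k :=
    fun c w h r j k => three
      (fun j => ∑ l : Fin 3, cj (F4.ofNat4 (((uRows.getD w.1 []).getD l.1 []).getD r.1 0)) * c l j) (h r) j k
  obtain ⟨r, rfl | rfl⟩ := halves i <;> obtain ⟨a, rfl | rfl⟩ := halves j <;> obtain ⟨b, rfl | rfl⟩ := halves k
  all_goals first
    | exact absurd (e₁ r a).2.2.1 hj
    | exact absurd (e₁ r b).2.2.1 hk
    | exact absurd (e₁ r a).2.2.2 hj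
    | exact absurd (e₁ r b).2.2.2 hk
    | exact congrArg _ (one (fun l j => mat g (cA l) (cA j)) u hU r a b ((e₁ r a).1 ▸ hj) ((e₁ r b).1 ▸ hk))
    | exact congrArg _ (one (fun l j => mat g (cB l) (cB j)) v hV r a b ((e₁ r a).2.1 ▸ hj) ((e₁ r b).2.1 ▸ hk))

theorem perm_of_kernel {K : Subgroup G} (c : Cover K) (hd : c.diagLift = diagSub) {x : ↥K} (hx : x.1 ∈ monoTop)
    {a : ↥triple} (hxa : c.proj x = rho a) (ha : a.1 = 1) : permPart ⟨x.1, hx⟩ = 1 := by
  have ha' : a = 1 := Subtype.ext ha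
  have h1 : c.proj x = 1 := by rw [hxa, ha', map_one]
  obtain ⟨h', e⟩ := mem_diagSub_iff.1 (scalar_mem_diag (c.scalar_of_proj_one hd h1))
  exact e

theorem diag_of_pair {K : Subgroup G} (c : Cover K) (hd : c.diagLift = diagSub) {s t : ↥K} (hs : s.1 ∈ monoTop)
    (ht : t.1 ∈ monoTop) {a b : ↥triple} (hsa : c.proj s = rho a) (htb : c.proj t = rho b) (i j k l : ℕ)
    (h : permPart ⟨s.1, hs⟩ ^ i * permPart ⟨t.1, ht⟩ ^ j = permPart ⟨s.1, hs⟩ ^ k * permPart ⟨t.1, ht⟩ ^ l) :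
    a.1 ^ i * b.1 ^ j * (a.1 ^ k * b.1 ^ l)⁻¹ ∈ diagSub := by
  let w : ↥K := s ^ i * t ^ j * (s ^ k * t ^ l)⁻¹
  let v : ↥triple := a ^ i * b ^ j * (a ^ k * b ^ l)⁻¹
  have hwv : c.proj w = rho v := by simp only [w, v, map_mul, map_pow, map_inv, hsa, htb]
  have hwm : w.1 ∈ monoTop := mul_mem (mul_mem (pow_mem hs _) (pow_mem ht _))
    (inv_mem (mul_mem (pow_mem hs _) (pow_mem ht _)))
  have hwd : w.1 ∈ diagSub := by
    refine mem_diagSub_iff.2 ⟨hwm, ?_⟩
    have e : permPart (⟨s.1, hs⟩ ^ i * ⟨t.1, ht⟩ ^ j * (⟨s.1, hs⟩ ^ k * ⟨t.1, ht⟩ ^ l)⁻¹) = 1 := by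
      simp only [map_mul, map_pow, map_inv, h, mul_inv_cancel]
    exact e
  obtain ⟨_, hh⟩ := c.mem_of_diag hd hwd
  have h2 : v ∈ imgDiag.comap rho := by
    rw [Subgroup.mem_comap, ← hwv]; exact hh
  rw [comap_imgDiag] at h2
  exact Subgroup.mem_subgroupOf.1 h2

theorem monomial_parity {m : G} (h : m ∈ monoTop) : ∃ e : Fin 2, (sigElt ^ e.1)⁻¹ * m ∈ monoEven := by
  by_cases hσ : permPart ⟨m, h⟩ ∈ alternatingGroup (Fin 6)
  · exact ⟨0, by simpa [monoEven] using mem_monoSub_iff.2 ⟨h, hσ⟩⟩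
  · refine ⟨1, ?_⟩
    have hs : sigElt ∈ monoTop := permHom_mem (Subgroup.mem_top _)
    rw [Fin.val_one, pow_one]
    refine mem_monoSub_iff.2 ⟨mul_mem (inv_mem hs) h, ?_⟩
    have e : permPart (⟨sigElt, hs⟩⁻¹ * ⟨m, h⟩) = (Equiv.swap 0 1)⁻¹ * permPart ⟨m, h⟩ := by
      rw [map_mul, map_inv]; congr 2; exact permPart_permHom _
    rw [Equiv.Perm.mem_alternatingGroup] at hσ ⊢
    have e' : permPart ⟨sigElt⁻¹ * m, mul_mem (inv_mem hs) h⟩ = (Equiv.swap 0 1)⁻¹ * permPart ⟨m, h⟩ := e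
    rw [e', map_mul, Equiv.Perm.sign_inv, Equiv.Perm.sign_swap (by decide : (0 : Fin 6) ≠ 1),
      (Int.units_eq_one_or _).resolve_left hσ]
    rfl

/-- After conjugation a cover contains the monomial group and a representative outside it. -/
theorem exists_rep {K : Subgroup G} (c : Cover K) :
    ∃ (n : G) (i j : Fin 4) (e : Fin 2), ¬(i = 0 ∧ j = 0) ∧ monoEven ≤ K.map (MulAut.conj n).toMonoidHom ∧
      rep i j e ∈ K.map (MulAut.conj n).toMonoidHom ∧ Nat.card ↥(K.map (MulAut.conj n).toMonoidHom) = 9797760 := by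
  obtain ⟨g₁, hg₁⟩ := sylow_normal_form c.card_diagLift c.diagLift_comm
  set K₁ := K.map (MulAut.conj g₁).toMonoidHom with hK₁
  let c₁ : Cover K₁ := c.conj g₁
  have hd : c₁.diagLift = diagSub := by rw [show c₁.diagLift = _ from c.diagLift_conj g₁, hg₁]
  have hX : halfDiag ∈ triple := diag_le_triple (dElt_mem _ halfDiag_ok.1)
  obtain ⟨y, hy⟩ := c₁.surj (rho ⟨_, hX⟩)
  have hyd : y.1 ∈ diagSub := c₁.diag_of_proj hd ⟨_, Subgroup.mem_subgroupOf.2 (dElt_mem _ halfDiag_ok.1), hy.symm⟩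
  have hyns : ¬ IsScalar y.1 := fun h => by
    have h1 : rho ⟨halfDiag, hX⟩ = 1 := by rw [← hy]; exact scalar_proj c₁ h
    obtain ⟨a, ha⟩ := rho_eq_one_iff.1 h1
    refine halfDiag_ne ?_
    show mat (⟨halfDiag, hX⟩ : ↥triple).1 0 0 = mat (⟨halfDiag, hX⟩ : ↥triple).1 3 3
    rw [ha]; simp
  have hlift : ∀ σ : Perm (Fin 6), σ ∈ alternatingGroup (Fin 6) → pmat σ * mat halfDiag = mat halfDiag * pmat σ →
      ∃ s : ↥K₁, ∃ hs : s.1 ∈ monoTop, c₁.proj (s * y * s⁻¹ * y⁻¹) = 1 ∧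
        ∃ hp : permHom σ ∈ triple, c₁.proj s = rho ⟨_, hp⟩ := by
    intro σ hσ hcom
    have hp : permHom σ ∈ triple := permHom_even hσ
    obtain ⟨s, hs⟩ := c₁.surj (rho ⟨_, hp⟩)
    refine ⟨s, c₁.lift_normalizes hd ⟨⟨_, hp⟩, Subgroup.mem_subgroupOf.2 (permHom_mem hσ), hs.symm⟩, ?_, hp, hs⟩
    have e : (⟨_, hp⟩ : ↥triple) * ⟨_, hX⟩ * ⟨_, hp⟩⁻¹ * ⟨_, hX⟩⁻¹ = 1 := by
      refine Subtype.ext ?_
      show permHom σ * halfDiag * (permHom σ)⁻¹ * halfDiag⁻¹ = 1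
      rw [show permHom σ * halfDiag = halfDiag * permHom σ from mat_injective (by rw [mat_mul, mat_mul]; exact hcom)]
      group
    simp only [map_mul, map_inv, hs, hy]
    rw [← map_inv rho ⟨_, hp⟩, ← map_inv rho ⟨_, hX⟩, ← map_mul, ← map_mul, ← map_mul, e, map_one]
  have hA : cycA ∈ nine := ⟨(1, 0), by simp⟩
  have hB : cycB ∈ nine := ⟨(0, 1), by simp⟩
  obtain ⟨s, hsm, hsy, hpA, hps⟩ := hlift cycA (nine_le_alt hA) cyc_comm.1
  obtain ⟨t, htm, hty, hpB, hpt⟩ := hlift cycB (nine_le_alt hB) cyc_comm.2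
  set σ := permPart ⟨s.1, hsm⟩ with hσdef
  set τ := permPart ⟨t.1, htm⟩ with hτdef
  have hcubeσ : σ ^ 3 = 1 := by
    rw [hσdef, ← map_pow]
    refine perm_of_kernel c₁ hd (x := s ^ 3) (pow_mem hsm 3) (a := ⟨_, hpA⟩ ^ 3) (by simp only [map_pow, hps]) ?_
    show permHom cycA ^ 3 = 1
    rw [← map_pow, show cycA ^ 3 = 1 by decide +kernel, map_one]
  have hcubeτ : τ ^ 3 = 1 := by
    rw [hτdef, ← map_pow]
    refine perm_of_kernel c₁ hd (x := t ^ 3) (pow_mem htm 3) (a := ⟨_, hpB⟩ ^ 3) (by simp only [map_pow, hpt]) ?_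
    show permHom cycB ^ 3 = 1
    rw [← map_pow, show cycB ^ 3 = 1 by decide +kernel, map_one]
  have hcomm : Commute σ τ := by
    have h1 : permPart (⟨s.1, hsm⟩ * ⟨t.1, htm⟩ * (⟨t.1, htm⟩ * ⟨s.1, hsm⟩)⁻¹) = 1 := by
      refine perm_of_kernel c₁ hd (x := s * t * (t * s)⁻¹) (mul_mem (mul_mem hsm htm) (inv_mem (mul_mem htm hsm)))
        (a := ⟨_, hpA⟩ * ⟨_, hpB⟩ * (⟨_, hpB⟩ * ⟨_, hpA⟩)⁻¹) (by simp only [map_mul, map_inv, hps, hpt]) ?_
      show permHom cycA * permHom cycB * (permHom cycB * permHom cycA)⁻¹ = 1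
      rw [← map_mul, ← map_mul, show cycA * cycB = cycB * cycA by decide +kernel, mul_inv_cancel]
    simp only [map_mul, map_inv, mul_inv_eq_one] at h1
    exact h1
  let J := pairSub ⟨hcubeσ, hcubeτ, hcomm⟩
  have hJcard : Nat.card ↥J = 9 := by
    have hinj : Function.Injective fun p : Fin 3 × Fin 3 => σ ^ p.1.1 * τ ^ p.2.1 := by
      intro p q hpq
      simp only at hpq
      have h3 := diag_of_pair c₁ hd hsm htm hps hpt _ _ _ _ hpq
      change permHom cycA ^ p.1.1 * permHom cycB ^ p.2.1 * (permHom cycA ^ q.1.1 * permHom cycB ^ q.2.1)⁻¹ ∈ diagSub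
        at h3
      simp only [← map_pow, ← map_mul, ← map_inv, mem_diagSub_iff] at h3
      obtain ⟨_, h3⟩ := h3
      rw [permPart_permHom, mul_inv_eq_one] at h3
      obtain ⟨e1, e2⟩ := nine_closed.2.2.1 _ _ _ _ h3
      exact Prod.ext e1 e2
    show Nat.card ↥(Set.range fun p : Fin 3 × Fin 3 => σ ^ p.1.1 * τ ^ p.2.1) = 9
    rw [Nat.card_range_of_injective hinj, Nat.card_prod, Nat.card_fin]
  obtain ⟨ν, hν⟩ := sylow_perm hJcard
  set n₂ := permHom ν with hn₂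
  have hn₂m : n₂ ∈ monoTop := permHom_mem (Subgroup.mem_top _)
  set y₂ := n₂ * y.1 * n₂⁻¹ with hy₂
  have hy₂d : y₂ ∈ diagSub := conj_mem_diag hn₂m hyd
  have hy₂ns : ¬ IsScalar y₂ := by
    rintro ⟨a, ha⟩
    refine hyns ⟨a, ?_⟩
    have e : y.1 = n₂⁻¹ * y₂ * n₂ := by rw [hy₂]; group
    rw [e, mat_mul, mat_mul, ha, mul_smul_comm, smul_mul_assoc, mul_one, ← mat_mul, inv_mul_cancel, mat_one]
  have hscal : ∀ ω ∈ nine, ∃ l : F4, ∀ x, mat y₂ x x = l * mat y₂ (ω x) (ω x) := by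
    intro ω hω
    obtain ⟨⟨a, b⟩, hab⟩ := hν ω hω
    set w := s ^ a.1 * t ^ b.1 with hw
    have hwm : w.1 ∈ monoTop := mul_mem (pow_mem hsm _) (pow_mem htm _)
    have hwy : c₁.proj (w * y * w⁻¹ * y⁻¹) = 1 := by
      have h1 : ∀ z : ↥K₁, c₁.proj (z * y * z⁻¹ * y⁻¹) = 1 ↔ Commute (c₁.proj z) (c₁.proj y) := fun z => by
        simp only [map_mul, map_inv]
        rw [mul_inv_eq_one, mul_inv_eq_iff_eq_mul]
        exact Iff.rfl
      rw [h1] at hsy hty ⊢
      rw [hw, map_mul, map_pow, map_pow]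
      exact (hsy.pow_left _).mul_left (hty.pow_left _)
    obtain ⟨l, hl⟩ := c₁.scalar_of_proj_one hd hwy
    set b₂ := n₂ * w.1 * n₂⁻¹ with hb₂
    have hbm : b₂ ∈ monoTop := mul_mem (mul_mem hn₂m hwm) (inv_mem hn₂m)
    have hbp : permPart ⟨b₂, hbm⟩ = ω := by
      have : permPart (⟨n₂, hn₂m⟩ * ⟨w.1, hwm⟩ * ⟨n₂, hn₂m⟩⁻¹) = ν * (σ ^ a.1 * τ ^ b.1) * ν⁻¹ := by
        rw [map_mul, map_mul, map_inv, show permPart ⟨n₂, hn₂m⟩ = ν from permPart_permHom ν,
          hσdef, hτdef, ← map_pow, ← map_pow, ← map_mul]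
        rfl
      rw [show σ ^ a.1 * τ ^ b.1 = ν⁻¹ * ω * ν from hab, mul_assoc ν, mul_inv_cancel_right, mul_inv_cancel_left]
        at this
      exact this
    refine ⟨l, eq_scale (b := b₂) (fun i j h => permPart_spec ⟨b₂, hbm⟩ i j (by rwa [hbp])) hy₂d l ?_⟩
    have e : b₂ * y₂ = n₂ * (w * y * w⁻¹ * y⁻¹ : ↥K₁).1 * n₂⁻¹ * (y₂ * b₂) := by
      rw [hb₂, hy₂]
      show _ = n₂ * (w.1 * y.1 * w.1⁻¹ * y.1⁻¹) * n₂⁻¹ * _
      group
    rw [e, mat_mul, mat_mul, mat_mul, hl, mul_smul_comm, mul_one, smul_mul_assoc, smul_mul_assoc, ← mat_mul,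
      mul_inv_cancel, mat_one, one_mul]
  obtain ⟨p1, p2, p4, p5⟩ := pattern _ (diagOK_of_mem hy₂d) (hscal _ hA) (hscal _ hB)
  have hab : mat y₂ 0 0 ≠ mat y₂ 3 3 := fun h => by
    refine hy₂ns ⟨mat y₂ 0 0, ?_⟩
    rw [mat_diag hy₂d, Matrix.smul_one_eq_diagonal]
    refine congrArg diagonal (funext fun i => ?_)
    rw [Matrix.diagonal_apply_eq]
    fin_cases i <;> simp [p1, p2, p4, p5, h]
  obtain ⟨g, hg⟩ := c₁.surj (rho ⟨_, witness_mem⟩)
  have hgy : g * y = y * g := by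
    have hW : (⟨_, witness_mem⟩ : ↥triple) * ⟨_, hX⟩ = ⟨_, hX⟩ * ⟨_, witness_mem⟩ :=
      Subtype.ext (mat_injective (by
        show mat (witness * halfDiag) = mat (halfDiag * witness)
        rw [mat_mul, mat_mul, witness_comm]))
    have hW4 : (⟨_, witness_mem⟩ : ↥triple) ^ 4 = 1 := Subtype.ext (mat_injective (by
      show mat (witness ^ 4) = mat 1
      rw [show (4 : ℕ) = 2 + 2 from rfl, pow_add, pow_two, mat_mul, mat_mul, witness_four, mat_one]))
    set z := g * y * g⁻¹ * y⁻¹ with hz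
    have hz1 : c₁.proj z = 1 := by
      simp only [hz, map_mul, map_inv, hg, hy]
      rw [← map_mul, hW, map_mul, mul_inv_cancel_right, mul_inv_cancel]
    have hzc := c₁.central hz1
    have step : g * y * g⁻¹ = z * y := by rw [hz, inv_mul_cancel_right]
    have iter : ∀ m : ℕ, g ^ m * y * (g ^ m)⁻¹ = z ^ m * y := fun m => by
      induction m with
      | zero => simp
      | succ m ih =>
        rw [pow_succ' g, show g * g ^ m * y * (g * g ^ m)⁻¹ = g * (g ^ m * y * (g ^ m)⁻¹) * g⁻¹ by group, ih,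
          show g * (z ^ m * y) * g⁻¹ = (g * z ^ m * g⁻¹) * (g * y * g⁻¹) by group, step,
          (Commute.pow_right (hzc g) m).eq, mul_inv_cancel_right, pow_succ]
        exact (mul_assoc _ _ _).symm
    have hg4 : c₁.proj (g ^ 4) = 1 := by rw [map_pow, hg, ← map_pow, hW4, map_one]
    have h4 := iter 4
    rw [← c₁.central hg4 y, mul_inv_cancel_right] at h4
    have hz4 : z ^ 4 = 1 := by simpa using h4.symm
    have hzo : z = 1 := by
      rw [show (4 : ℕ) = 3 + 1 from rfl, pow_succ, c₁.cube hz1, one_mul] at hz4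
      exact hz4
    rw [hzo, one_mul, mul_inv_eq_iff_eq_mul] at step
    exact step
  have hgm : g.1 ∉ monoTop := fun hgm => by
    refine witness_not_mono (monoTop_of_normalizes fun e he => ?_)
    obtain ⟨x, hxp⟩ := c₁.surj (rho ⟨e, diag_le_triple he⟩)
    have hxd : x.1 ∈ diagSub := c₁.diag_of_proj hd ⟨_, Subgroup.mem_subgroupOf.2 he, hxp.symm⟩
    obtain ⟨_, hp⟩ := c₁.mem_of_diag hd (conj_mem_diag hgm hxd)
    have h2 : c₁.proj (g * x * g⁻¹) ∈ imgDiag := hp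
    rw [map_mul, map_mul, map_inv, hg, hxp, ← map_inv, ← map_mul, ← map_mul] at h2
    have h3 : (⟨witness, witness_mem⟩ : ↥triple) * ⟨e, diag_le_triple he⟩ * ⟨witness, witness_mem⟩⁻¹ ∈
        imgDiag.comap rho := h2
    rw [comap_imgDiag] at h3
    exact Subgroup.mem_subgroupOf.1 h3
  set g₂ := n₂ * g.1 * n₂⁻¹ with hg₂
  have hcg : mat g₂ * mat y₂ = mat y₂ * mat g₂ := by
    rw [← mat_mul, ← mat_mul]
    refine congrArg mat ?_
    rw [hg₂, hy₂, show n₂ * g.1 * n₂⁻¹ * (n₂ * y.1 * n₂⁻¹) = n₂ * (g.1 * y.1) * n₂⁻¹ by group,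
      show n₂ * y.1 * n₂⁻¹ * (n₂ * g.1 * n₂⁻¹) = n₂ * (y.1 * g.1) * n₂⁻¹ by group,
      show g.1 * y.1 = y.1 * g.1 from congrArg Subtype.val hgy]
  have hzero : ∀ i j, mat y₂ i i ≠ mat y₂ j j → mat g₂ i j = 0 := fun i j hne => by
    have h := congrFun (congrFun hcg i) j
    rw [mat_diag hy₂d, Matrix.mul_diagonal, Matrix.diagonal_mul] at h
    by_contra h0
    exact hne (mul_right_cancel₀ h0 ((mul_comm _ _).trans h).symm).symm.symm
  have valA : ∀ i, mat y₂ (cA i) (cA i) = mat y₂ 0 0 := fun i => by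
    fin_cases i
    exacts [rfl, p1, p2]
  have valB : ∀ i, mat y₂ (cB i) (cB i) = mat y₂ 3 3 := fun i => by
    fin_cases i
    exacts [rfl, p4, p5]
  obtain ⟨u, v, huv⟩ := exists_frames (g := g₂)
    (fun i j => hzero _ _ (by rw [valA, valB]; exact hab))
    (fun i j => hzero _ _ (by rw [valA, valB]; exact hab.symm))
  obtain ⟨e, he⟩ := monomial_parity huv
  have hne : ¬(u = 0 ∧ v = 0) := by
    rintro ⟨rfl, rfl⟩
    have h0 : blockA 0 * blockB 0 = 1 := mat_injective (by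
      show blk 0 0 * blk 0 0 = mat 1
      rw [mat_one]; decide +kernel)
    rw [h0, inv_one, one_mul] at huv
    refine hgm ?_
    have := mul_mem (mul_mem (inv_mem hn₂m) huv) hn₂m
    rwa [show n₂⁻¹ * g₂ * n₂ = g.1 by rw [hg₂]; group] at this
  have hmap : K.map (MulAut.conj (n₂ * g₁)).toMonoidHom = K₁.map (MulAut.conj n₂).toMonoidHom := by
    rw [hK₁, Subgroup.map_map]
    refine congrArg (fun f => Subgroup.map f K) (MonoidHom.ext fun x => ?_)
    simp [mul_assoc]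
  have heven : monoEven ≤ K₁.map (MulAut.conj n₂).toMonoidHom := fun x hx => by
    refine ⟨n₂⁻¹ * x * n₂, c₁.even_le hd ?_, by simp [mul_assoc]⟩
    simpa using conj_mem_even (inv_mem hn₂m) hx
  refine ⟨n₂ * g₁, u, v, e, hne, hmap ▸ heven, ?_, ?_⟩
  · rw [hmap]
    have hgK : g₂ ∈ K₁.map (MulAut.conj n₂).toMonoidHom := ⟨g.1, g.2, by simp [hg₂]⟩
    have := mul_mem hgK (inv_mem (heven he))
    rw [show g₂ * ((sigElt ^ e.1)⁻¹ * ((blockA u * blockB v)⁻¹ * g₂))⁻¹ = rep u v e by rw [rep]; group] at this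
    exact this
  · rw [← c.card_eq]
    exact (Nat.card_congr (K.equivMapOfInjective _ (MulAut.conj (n₂ * g₁)).injective).toEquiv).symm

end CfsgLib.Sporadic.U43Triple
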